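import Groth.Agent.H4.PicZero.Calculus
import Groth.Agent.H3.PicCalc
import Groth.Agent.Lib.TensorMod.Invertible
import Mathlib.AlgebraicGeometry.Sites.Fpqc
import Groth.Agent.Lib.GrpSch.Basic

/-!
# Transposes exist
-/

set_option autoImplicit false
set_option linter.style.haveILetI false
set_option linter.unusedSectionVars false

universe u

open CategoryTheory CategoryTheory.Limits MonoidalCategory CartesianMonoidalCategory AlgebraicGeometry

noncomputable section

namespace Groth.Agent.H4.KerDual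

open Groth.Agent.H3 Groth.Agent.H4.PicZero

/-- Compatible morphisms on an fppf family glue. -/
theorem exists_glue_hom {T Z : Scheme.{u}} {I : Type u} {U : I → Scheme.{u}} (p : ∀ i, U i ⟶ T)
    [∀ i, Flat (p i)] [∀ i, LocallyOfFinitePresentation (p i)]
    (hp : ∀ x : T, ∃ i, x ∈ Set.range (p i)) (r : ∀ i, U i ⟶ Z)
    (hr : ∀ (i j : I) (W : Scheme.{u}) (a : W ⟶ U i) (b : W ⟶ U j), a ≫ p i = b ≫ p j →
      a ≫ r i = b ≫ r j) :
    ∃ t : T ⟶ Z, ∀ i, p i ≫ t = r i := by
  have hmem : Presieve.ofArrows U p ∈ Scheme.fppfPrecoverage T := by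
    rw [Scheme.fppfPrecoverage, Scheme.ofArrows_mem_precoverage_iff]
    exact ⟨hp, fun i => ⟨inferInstance, inferInstance⟩⟩
  have hs : Presieve.IsSheafFor (yoneda.obj Z) (Presieve.ofArrows U p) :=
    (GrothendieckTopology.Subcanonical.isSheaf_of_isRepresentable
      (J := Scheme.fppfTopology) _).isSheafFor (Presieve.ofArrows U p)
      (Precoverage.generate_mem_toGrothendieck (R := Presieve.ofArrows U p) hmem)
  rw [Presieve.isSheafFor_arrows_iff] at hs
  obtain ⟨t, ht, -⟩ := hs r (fun i j W a b hab => hr i j W a b hab)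
  exact ⟨t, ht⟩

variable {S : Scheme.{u}} {X Y Xt Yt : Over S}
  {φX : ∀ T : Over S, PicF.Cl (PicF.XT X.hom T) → (T ⟶ Xt)}
  {φY : ∀ T : Over S, PicF.Cl (PicF.XT Y.hom T) → (T ⟶ Yt)}
  [GrpObj Xt] [GrpObj Yt]
  (hX : AbDual.IsDualAV Scheme.fppfPrecoverage X Xt φX)
  (hY : AbDual.IsDualAV Scheme.fppfPrecoverage Y Yt φY)

include hX hY in
/-- Classes with the same point have pullbacks with the same point. -/
theorem phi_pull_eq (g : Y ⟶ X) {T : Over S} {c c' : PicF.Cl (PicF.XT X.hom T)}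
    (hc : AbDual.IsPicZeroCl X.hom T c) (hc' : AbDual.IsPicZeroCl X.hom T c') (h : φX T c = φX T c') :
    φY T (PicF.pullCl (AbDual.bcMap g T) c) = φY T (PicF.pullCl (AbDual.bcMap g T) c') := by
  obtain ⟨R, hR, hloc⟩ := hX.relPic.locallyInjective T c c' hc hc' h
  obtain ⟨hcov, hprop⟩ := fppf_cover_props hR
  apply Over.OverMorphism.ext
  refine hom_ext_of_fppf fun x => ?_
  obtain ⟨U, u, hu, hx⟩ := hcov x
  refine ⟨U, u, (hprop u hu).1, hx, ?_⟩
  have e : ∀ d, AbDual.IsPicZeroCl X.hom T d →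
      AbDual.ovrHom T u ≫ φY T (PicF.pullCl (AbDual.bcMap g T) d) =
        φY _ (PicF.pullCl (AbDual.bcMap g (AbDual.ovr T u)) (PicF.pullCl (PicF.XTmap X.hom (AbDual.ovrHom T u)) d)) := by
    intro d hd
    rw [← hY.relPic.natural T _ (AbDual.ovrHom T u) _ (isPicZeroCl_bcMap g hd), ← PicLoc.pullCl_comp,
      ← PicLoc.pullCl_comp]
    congr 2
    rw [XTmap_eq, XTmap_eq, bcMap_eq, bcMap_eq, ← Over.comp_left, ← Over.comp_left,
      MonoidalCategory.whisker_exchange]
  have h1 := e c hc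
  rw [hloc u hu, ← e c' hc'] at h1
  exact congrArg Over.Hom.left h1

include hX hY in
/-- The transpose of a morphism exists. -/
theorem exists_transpose (g : Y ⟶ X) : ∃ gt : Xt ⟶ Yt, AbDual.IsTranspose g φY φX gt := by
  obtain ⟨R, hR, hloc⟩ := hX.relPic.locallySurjective Xt (𝟙 Xt)
  obtain ⟨hcov, hprop⟩ := fppf_cover_props hR
  choose U u hu hx using hcov
  choose c hc hφ using fun x => hloc (u x) (hu x)
  haveI : ∀ x, Flat (u x) := fun x => (hprop _ (hu x)).1
  haveI : ∀ x, LocallyOfFinitePresentation (u x) := fun x => (hprop _ (hu x)).2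
  let r : ∀ x, AbDual.ovr Xt (u x) ⟶ Yt := fun x => φY _ (PicF.pullCl (AbDual.bcMap g _) (c x))
  have key : ∀ (T : Over S) (d : PicF.Cl (PicF.XT X.hom T)), AbDual.IsPicZeroCl X.hom T d →
      ∀ x (q : T ⟶ AbDual.ovr Xt (u x)), q ≫ AbDual.ovrHom Xt (u x) = φX T d →
        φY T (PicF.pullCl (AbDual.bcMap g T) d) = q ≫ r x := by
    intro T d hd x q hq
    have h1 : φX T (PicF.pullCl (PicF.XTmap X.hom q) (c x)) = φX T d := by
      rw [hX.relPic.natural _ _ q _ (hc x), hφ x, Category.comp_id, hq]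
    have hz : AbDual.IsPicZeroCl X.hom T (PicF.pullCl (PicF.XTmap X.hom q) (c x)) :=
      isPicZeroCl_pullCl q.left _ (pullback.lift_snd _ _ _) (hc x)
    rw [phi_pull_eq hX hY g hd hz h1.symm, ← hY.relPic.natural _ _ q _ (isPicZeroCl_bcMap g (hc x)),
      ← PicLoc.pullCl_comp, ← PicLoc.pullCl_comp]
    congr 2
    rw [XTmap_eq, XTmap_eq, bcMap_eq, bcMap_eq, ← Over.comp_left, ← Over.comp_left,
      MonoidalCategory.whisker_exchange]
  obtain ⟨t, ht⟩ := exists_glue_hom u (fun x => ⟨x, hx x⟩) (fun x => (r x).left) fun x x' W a a' h => by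
    let T : Over S := Over.mk (a ≫ u x ≫ Xt.hom)
    let q : T ⟶ AbDual.ovr Xt (u x) := Over.homMk a rfl
    let q' : T ⟶ AbDual.ovr Xt (u x') := Over.homMk a' (by
      show a' ≫ u x' ≫ Xt.hom = a ≫ u x ≫ Xt.hom
      rw [← Category.assoc, ← h, Category.assoc])
    have hd := isPicZeroCl_pullCl (f := X.hom) (f' := X.hom) q.left (PicF.XTmap X.hom q)
      (pullback.lift_snd _ _ _) (hc x)
    have hp : φX T (PicF.pullCl (PicF.XTmap X.hom q) (c x)) = q ≫ AbDual.ovrHom Xt (u x) := by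
      rw [hX.relPic.natural _ _ q _ (hc x), hφ x, Category.comp_id]
    have e := key T _ hd x q hp.symm
    have e' := key T _ hd x' q' (by rw [hp]; exact Over.OverMorphism.ext h.symm)
    exact congrArg Over.Hom.left (e.symm.trans e')
  have ht' : t ≫ Yt.hom = Xt.hom := by
    refine hom_ext_of_fppf fun x => ⟨U x, u x, inferInstance, hx x, ?_⟩
    rw [← Category.assoc, ht]
    exact Over.w (r x)
  refine ⟨Over.homMk t ht', fun T d hd => ?_⟩
  apply Over.OverMorphism.ext
  refine hom_ext_of_fppf fun z => ?_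
  let m := φX T d
  let x := m.left z
  obtain ⟨z', hz'⟩ := hx x
  obtain ⟨w, hw, -⟩ := Scheme.Pullback.exists_preimage_pullback (f := m.left) (g := u x) z z' hz'.symm
  let p := pullback.fst m.left (u x)
  let T' : Over S := Over.mk (p ≫ T.hom)
  let po : T' ⟶ T := Over.homMk p rfl
  let q : T' ⟶ AbDual.ovr Xt (u x) := Over.homMk (pullback.snd m.left (u x)) (by
    show pullback.snd _ _ ≫ u x ≫ Xt.hom = p ≫ T.hom
    rw [← pullback.condition_assoc, Over.w m])
  refine ⟨_, p, inferInstanceAs (Flat (pullback.fst m.left (u x))), ⟨w, hw⟩, ?_⟩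
  have hd' : AbDual.IsPicZeroCl X.hom T' (PicF.pullCl (PicF.XTmap X.hom po) d) :=
    isPicZeroCl_pullCl po.left _ (pullback.lift_snd _ _ _) hd
  have hq : q ≫ AbDual.ovrHom Xt (u x) = φX T' (PicF.pullCl (PicF.XTmap X.hom po) d) := by
    rw [hX.relPic.natural _ _ po _ hd]
    exact Over.OverMorphism.ext pullback.condition.symm
  have e := key T' _ hd' x q hq
  rw [← PicLoc.pullCl_comp] at e
  have e2 : AbDual.bcMap g T' ≫ PicF.XTmap X.hom po = PicF.XTmap Y.hom po ≫ AbDual.bcMap g T := by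
    rw [XTmap_eq, XTmap_eq, bcMap_eq, bcMap_eq, ← Over.comp_left, ← Over.comp_left,
      MonoidalCategory.whisker_exchange]
  rw [e2, PicLoc.pullCl_comp, hY.relPic.natural _ _ po _ (isPicZeroCl_bcMap g hd)] at e
  have e3 := congrArg Over.Hom.left e
  show p ≫ _ = p ≫ m.left ≫ t
  rw [pullback.condition_assoc, ht]
  exact e3

end Groth.Agent.H4.KerDual
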