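import Groth.Agent.H4.KerDual.Lambda
import Groth.Agent.H4.KerDual.Transpose
import Groth.Agent.H63.DegreeHom
import Groth.Agent.H63.AVDegree
import Groth.Agent.H63.AVIsogeny
import Groth.Agent.H4.MulIso
import Groth.Agent.H4.NPowEtale
import Groth.Agent.H4.PicZero.Calculus
import Groth.Agent.S12387

/-!
# The degree of the transpose of an isogeny
-/

set_option autoImplicit false
set_option linter.style.haveILetI false
set_option linter.unusedSectionVars false

universe u

open CategoryTheory CategoryTheory.Limits MonoidalCategory CartesianMonoidalCategory MonObj AlgebraicGeometry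

noncomputable section

namespace Groth.Agent.H4.KerDual

open Groth.Agent.H3 Groth.Agent.H4.PicZero Groth.Agent.Lib Groth.Agent.Lib.H3

variable {k : Type u} [Field k]

/-- Degrees are constant. -/
theorem finrank_eq_deg {X Y : Over (Spec (CommRingCat.of k))} [IsIntegral Y.left] (f : X ⟶ Y)
    [IsFinite f.left] [Flat f.left] [LocallyOfFinitePresentation f.left] (y : Y.left) :
    f.left.finrank y = H63.DegreeHom.deg f := by
  rw [H63.DegreeHom.deg_of_isFinite ‹_›]
  exact (Scheme.Hom.isLocallyConstant_finrank (f := f.left)).apply_eq_of_preconnectedSpace _ _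

variable {X Y Xt Yt : Over (Spec (CommRingCat.of k))}
  [GrpObj X] [IsProper X.hom] [Smooth X.hom] [GeometricallyConnected X.hom]
  [GrpObj Y] [IsProper Y.hom] [Smooth Y.hom] [GeometricallyConnected Y.hom]
  [GrpObj Xt] [IsProper Xt.hom] [Smooth Xt.hom] [GeometricallyConnected Xt.hom]
  [GrpObj Yt] [IsProper Yt.hom] [Smooth Yt.hom] [GeometricallyConnected Yt.hom]
  {φX : ∀ T : Over (Spec (CommRingCat.of k)), PicF.Cl (PicF.XT X.hom T) → (T ⟶ Xt)}
  {φY : ∀ T : Over (Spec (CommRingCat.of k)), PicF.Cl (PicF.XT Y.hom T) → (T ⟶ Yt)}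
  (hX : AbDual.IsDualAV Scheme.fppfPrecoverage X Xt φX)
  (hY : AbDual.IsDualAV Scheme.fppfPrecoverage Y Yt φY)
  {f : X ⟶ Y} [IsMonHom f] [IsFinite f.left] [Flat f.left] [Surjective f.left]
  {ft : Yt ⟶ Xt} (hft : AbDual.IsTranspose f φX φY ft)

include hX hY hft in
theorem isMonHom_transpose : IsMonHom ft := by
  haveI := Groth.Agent.H2.Rigid.GeomIrred.geometricallyIntegral_of_smooth Yt.hom
  exact AVHom.isMonHom_of_pointed ft (unit_comp_transpose hX hY hft)

include hX hY hft in
/-- The transpose is finite flat surjective, of degree at most that of the isogeny. -/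
theorem transpose_props [IsIntegral Y.left] [IsIntegral Xt.left] :
    IsFinite ft.left ∧ Flat ft.left ∧ Surjective ft.left ∧
      H63.DegreeHom.deg ft ≤ H63.DegreeHom.deg f := by
  haveI := Groth.Agent.H2.Rigid.GeomIrred.geometricallyIntegral_of_smooth X.hom
  haveI := Groth.Agent.H2.Rigid.GeomIrred.geometricallyIntegral_of_smooth Y.hom
  haveI := Groth.Agent.H2.Rigid.GeomIrred.geometricallyIntegral_of_smooth Xt.hom
  haveI := Groth.Agent.H2.Rigid.GeomIrred.geometricallyIntegral_of_smooth Yt.hom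
  haveI := isCommMonObj_of_isProper_of_geometricallyIntegral X
  haveI := isCommMonObj_of_isProper_of_geometricallyIntegral Y
  haveI := isCommMonObj_of_isProper_of_geometricallyIntegral Xt
  haveI := isCommMonObj_of_isProper_of_geometricallyIntegral Yt
  haveI := isMonHom_transpose hX hY hft
  obtain ⟨N, _, i, _, hN, -⟩ := IsogenyFactor.exists_kernel f
  haveI : IsFinite N.hom := KernelSquare.hom_of f i hN (P := @IsFinite) inferInstance
  obtain ⟨hsurj, hflat, hker⟩ := Groth.Agent.S12387.result X Y Xt Yt φX φY hX hY f N i hN ft hft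
  obtain ⟨M, _, j, _, hM, -⟩ := IsogenyFactor.exists_kernel ft
  haveI : IsFinite M.hom := (hker M j hM).1
  haveI := hsurj
  haveI := hflat
  haveI : IsProper (ft.left ≫ Xt.hom) := by rw [Over.w]; infer_instance
  haveI : IsProper ft.left := IsProper.of_comp ft.left Xt.hom
  haveI hfin : IsFinite ft.left := KernelSquare.left_of_hom ft j hM (P := @IsFinite) inferInstance
  haveI : IsLocallyNoetherian Y.left := LocallyOfFiniteType.isLocallyNoetherian Y.hom
  haveI : IsLocallyNoetherian Xt.left := LocallyOfFiniteType.isLocallyNoetherian Xt.hom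
  haveI : LocallyOfFinitePresentation f.left := LocallyOfFinitePresentation.iff_locallyOfFiniteType.2 inferInstance
  haveI : LocallyOfFinitePresentation ft.left := LocallyOfFinitePresentation.iff_locallyOfFiniteType.2 inferInstance
  refine ⟨hfin, hflat, hsurj, ?_⟩
  let s : Spec (CommRingCat.of k) := IsLocalRing.closedPoint k
  rw [← finrank_eq_deg f (η[Y].left s), ← finrank_eq_deg ft (η[Xt].left s),
    finrank_eq_kernel f i hN, finrank_eq_kernel ft j hM]
  exact finrank_kernel_le hX hY hN hft hM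

include hX in
/-- A dual has the dimension of the variety. -/
theorem dim_dual {r : ℕ} (hr : topologicalKrullDim X.left = r) : topologicalKrullDim Xt.left = r := by
  haveI := Groth.Agent.H2.Rigid.GeomIrred.geometricallyIntegral_of_smooth X.hom
  haveI := Groth.Agent.H2.Rigid.GeomIrred.geometricallyIntegral_of_smooth Xt.hom
  haveI := isCommMonObj_of_isProper_of_geometricallyIntegral X
  haveI := isCommMonObj_of_isProper_of_geometricallyIntegral Xt
  haveI : IsIntegral X.left := GeometricallyIntegral.isIntegral_of_subsingleton X.hom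
  haveI : IsIntegral Xt.left := GeometricallyIntegral.isIntegral_of_subsingleton Xt.hom
  haveI : Flat X.hom := SpHomog.flat_to_field _
  obtain ⟨r', hr'⟩ := H63.AVIsogeny.exists_dim (k := k) (A := Xt)
  have h1 : r ≤ r' := by
    have := topologicalKrullDim_le hX
    rw [hr, hr'] at this
    exact_mod_cast this
  obtain ⟨hfin, hflat, hs⟩ := H4.MulIso.int X (d := (2 : ℤ)) (by norm_num)
  obtain ⟨hfin', hflat', hs'⟩ := H4.MulIso.int Xt (d := (2 : ℤ)) (by norm_num)
  haveI : IsMonHom ((𝟙 X : X ⟶ X) ^ (2 : ℕ)) := NPowEtale.isMonHom_pow_id X 2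
  have e2 : ((𝟙 X : X ⟶ X) ^ (2 : ℤ)) = (𝟙 X : X ⟶ X) ^ (2 : ℕ) := zpow_natCast _ 2
  have e2' : ((𝟙 Xt : Xt ⟶ Xt) ^ (2 : ℤ)) = (𝟙 Xt : Xt ⟶ Xt) ^ (2 : ℕ) := zpow_natCast _ 2
  rw [e2] at hfin hflat hs
  haveI := hfin
  haveI := hflat
  haveI := hs
  obtain ⟨hf', hfl', -, hle⟩ := transpose_props hX hX (f := (𝟙 X : X ⟶ X) ^ (2 : ℕ))
    (isTranspose_pow hX hX isTranspose_id 2)
  rw [H63.DegreeHom.deg_of_isFinite hf', H63.DegreeHom.deg_of_isFinite hfin, ← e2, ← e2',
    H63.AVDegree.finrank_zpow Xt hr' (by norm_num), H63.AVDegree.finrank_zpow X hr (by norm_num)] at hle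
  have h2 : r' ≤ r := by
    have := (Nat.pow_le_pow_iff_right (by norm_num : 1 < (2 : ℤ).natAbs)).1 hle
    omega
  rw [hr', le_antisymm h2 h1]

include hX hY hft in
/-- The transpose of an isogeny has the same degree. -/
theorem deg_transpose [IsIntegral Y.left] [IsIntegral Xt.left] :
    H63.DegreeHom.deg ft = H63.DegreeHom.deg f := by
  haveI := Groth.Agent.H2.Rigid.GeomIrred.geometricallyIntegral_of_smooth X.hom
  haveI := Groth.Agent.H2.Rigid.GeomIrred.geometricallyIntegral_of_smooth Y.hom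
  haveI := Groth.Agent.H2.Rigid.GeomIrred.geometricallyIntegral_of_smooth Xt.hom
  haveI := Groth.Agent.H2.Rigid.GeomIrred.geometricallyIntegral_of_smooth Yt.hom
  haveI := isCommMonObj_of_isProper_of_geometricallyIntegral X
  haveI := isCommMonObj_of_isProper_of_geometricallyIntegral Y
  haveI := isCommMonObj_of_isProper_of_geometricallyIntegral Xt
  haveI := isCommMonObj_of_isProper_of_geometricallyIntegral Yt
  haveI : IsIntegral X.left := GeometricallyIntegral.isIntegral_of_subsingleton X.hom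
  haveI : IsIntegral Yt.left := GeometricallyIntegral.isIntegral_of_subsingleton Yt.hom
  haveI : Flat X.hom := SpHomog.flat_to_field _
  haveI := isMonHom_transpose hX hY hft
  obtain ⟨hf1, hf2, hf3, hle⟩ := transpose_props hX hY hft
  obtain ⟨n, g, hn, hgm, hfg, hgf, hg1, hg2, hg3⟩ := H4.Chow.exists_quasiInverse f
  obtain ⟨gt, hgt⟩ := exists_transpose hX hY g
  haveI := hgm
  haveI := hg1
  haveI := hg2
  haveI := hg3
  haveI := isMonHom_transpose hY hX hgt
  obtain ⟨hgf1, -, -, hgle⟩ := transpose_props hY hX hgt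
  obtain ⟨r, hr⟩ := H63.AVIsogeny.exists_dim (k := k) (A := X)
  have hrY : topologicalKrullDim Y.left = r := by
    refine le_antisymm ?_ ?_
    · rw [← hr]
      exact (Flat55.FlatEquidim.topologicalKrullDim_le_of_quasiFinite g.left).trans
        Topology.IsInducing.subtypeVal.topologicalKrullDim_le
    · rw [← hr]
      exact (Flat55.FlatEquidim.topologicalKrullDim_le_of_quasiFinite f.left).trans
        Topology.IsInducing.subtypeVal.topologicalKrullDim_le
  have hrXt := dim_dual hX hr
  have hrYt := dim_dual hY hrY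
  have hn0 : (n : ℤ) ≠ 0 := by omega
  have hc : ft ≫ gt = (𝟙 Yt : Yt ⟶ Yt) ^ n :=
    transpose_unique hY (isTranspose_comp hgt hft) (hgf ▸ isTranspose_pow hY hY isTranspose_id n)
  have hd1 := H63.DegreeHom.deg_comp hr hrY hr f g
  have hd2 := H63.DegreeHom.deg_comp hrYt hrXt hrYt ft gt
  obtain ⟨hnX, -, -⟩ := H4.MulIso.int X (d := (n : ℤ)) hn0
  obtain ⟨hnY, -, -⟩ := H4.MulIso.int Yt (d := (n : ℤ)) hn0
  rw [zpow_natCast] at hnX hnY
  rw [hfg, H63.DegreeHom.deg_of_isFinite hnX, ← zpow_natCast (𝟙 X : X ⟶ X) n,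
    H63.AVDegree.finrank_zpow X hr hn0] at hd1
  rw [hc, H63.DegreeHom.deg_of_isFinite hnY, ← zpow_natCast (𝟙 Yt : Yt ⟶ Yt) n,
    H63.AVDegree.finrank_zpow Yt hrYt hn0] at hd2
  have hpos : 0 < H63.DegreeHom.deg f * H63.DegreeHom.deg g := by
    rw [← hd1]
    exact pow_pos (Int.natAbs_pos.2 hn0) _
  have e := hd1.symm.trans hd2
  refine le_antisymm hle (Nat.le_of_mul_le_mul_right ?_ (Nat.pos_of_ne_zero (right_ne_zero_of_mul hpos.ne')))
  calc H63.DegreeHom.deg f * H63.DegreeHom.deg g = H63.DegreeHom.deg ft * H63.DegreeHom.deg gt := e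
    _ ≤ H63.DegreeHom.deg ft * H63.DegreeHom.deg g := Nat.mul_le_mul le_rfl hgle

end Groth.Agent.H4.KerDual
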