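import Groth.Agent.Lib.H3.FunTensor
import Mathlib.RingTheory.Finiteness.Basic
import Mathlib.RingTheory.IsTensorProduct
import Mathlib.AlgebraicGeometry.Morphisms.FiniteType
import Mathlib.RingTheory.FiniteType
import Mathlib.CategoryTheory.Monoidal.Cartesian.Grp
import Mathlib.LinearAlgebra.Dimension.OrzechProperty
import Mathlib.Algebra.Algebra.Epi

/-!
# A separating multiplicative pairing of finite schemes bounds the rank

If `χ` is a function on `N ⊗ M`, multiplicative in `N`, whose restrictions separate the points of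
`M`, then the functions of `M` are spanned by the coefficients of `χ`.
-/

set_option autoImplicit false
set_option linter.style.haveILetI false
set_option linter.unusedSectionVars false

universe u

open CategoryTheory CategoryTheory.Limits MonoidalCategory CartesianMonoidalCategory MonObj AlgebraicGeometry
open scoped TensorProduct
open Groth.Agent.Lib Groth.Agent.Lib.H3

noncomputable section

namespace Groth.Agent.H4.KerDual.Dual

open FunTensor

attribute [local instance] RedSplit98.Basic.alg

variable {k : Type u} [Field k]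

section HomOf

variable {M : Over (Spec (CommRingCat.of k))} [IsFinite M.hom] {R : Type u} [CommRing R] [Algebra k R]

/-- The spectrum of an algebra. -/
abbrev spec (R : Type u) [CommRing R] [Algebra k R] : Over (Spec (CommRingCat.of k)) :=
  Over.mk (Spec.map (CommRingCat.ofHom (algebraMap k R)))

theorem exists_homOf (σ : Fn M →ₐ[k] R) :
    ∃ g : spec R ⟶ M, ∀ b : Fn M, (Scheme.ΓSpecIso (CommRingCat.of R)).hom.hom (pull g b) = σ b := by
  haveI := RedSplit98.Basic.isAffine_of_isFinite M
  let p : Spec (CommRingCat.of R) ⟶ M.left :=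
    Spec.map (CommRingCat.ofHom σ.toRingHom) ≫ M.left.isoSpec.inv
  have hp : p.appTop ≫ (Scheme.ΓSpecIso (CommRingCat.of R)).hom = CommRingCat.ofHom σ.toRingHom := by
    have h : p ≫ M.left.toSpecΓ = Spec.map (CommRingCat.ofHom σ.toRingHom) := by
      simp only [p, Category.assoc, ← Scheme.isoSpec_hom, Iso.inv_hom_id, Category.comp_id]
    have h2 := congrArg Scheme.Hom.appTop h
    rw [Scheme.Hom.comp_appTop, Scheme.toSpecΓ_appTop] at h2
    rw [← cancel_epi (Scheme.ΓSpecIso Γ(M.left, ⊤)).hom, ← Category.assoc, h2,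
      Scheme.ΓSpecIso_naturality]
    rfl
  refine ⟨Over.homMk p (ext_of_isAffine ?_), fun b => congr($hp b)⟩
  show (p ≫ M.hom).appTop = (Spec.map (CommRingCat.ofHom (algebraMap k R))).appTop
  rw [Scheme.Hom.comp_appTop, ← cancel_mono (Scheme.ΓSpecIso (CommRingCat.of R)).hom, Category.assoc,
    hp, Scheme.ΓSpecIso_naturality, ← cancel_epi (Scheme.ΓSpecIso (CommRingCat.of k)).inv,
    Iso.inv_hom_id_assoc]
  ext c
  exact σ.commutes c

theorem locallyOfFiniteType_spec [Module.Finite k R] : LocallyOfFiniteType (spec (k := k) R).hom := by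
  show LocallyOfFiniteType (Spec.map _)
  rw [HasRingHomProperty.Spec_iff (P := @LocallyOfFiniteType)]
  exact (RingHom.finiteType_algebraMap (A := k) (B := R)).2 inferInstance

end HomOf

variable {N M : Over (Spec (CommRingCat.of k))} [GrpObj N] [IsFinite N.hom] [IsFinite M.hom]

/-- A basis of the functions of `N`. -/
def bas : Module.Basis (Module.Free.ChooseBasisIndex k (Fn N)) k (Fn N) := Module.Free.chooseBasis k _

/-- A coefficient map. -/
def T {P : Over (Spec (CommRingCat.of k))} [IsFinite P.hom] (a : Module.Dual k (Fn P)) :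
    Fn (P ⊗ M) →ₗ[k] Fn M :=
  (TensorProduct.lid k (Fn M)).toLinearMap ∘ₗ a.rTensor (Fn M) ∘ₗ (equiv P M).symm.toLinearMap

theorem T_apply {P : Over (Spec (CommRingCat.of k))} [IsFinite P.hom] (a : Module.Dual k (Fn P))
    (r : Fn P) (s : Fn M) : T (M := M) a (pull (fst P M) r * pull (snd P M) s) = a r • s := by
  rw [← equiv_tmul]
  simp [T]

variable (χ : Fn (N ⊗ M))

/-- The coefficients of `χ`. -/
def coef (j : Module.Free.ChooseBasisIndex k (Fn N)) : Fn M := T ((bas (N := N)).coord j) χ

theorem expand [Fintype (Module.Free.ChooseBasisIndex k (Fn N))] :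
    χ = ∑ j, pull (fst N M) ((bas (N := N)) j) * pull (snd N M) (coef χ j) := by
  obtain ⟨z, rfl⟩ := (equiv N M).surjective χ
  induction z using TensorProduct.induction_on with
  | zero => simp [coef]
  | add a b ha hb =>
    simp only [coef, map_add, mul_add, Finset.sum_add_distrib] at ha hb ⊢
    rw [← ha, ← hb]
  | tmul r s =>
    simp only [coef, equiv_tmul, T_apply, Module.Basis.coord_apply, map_smul, Algebra.mul_smul_comm]
    simp only [← Algebra.smul_mul_assoc, ← map_smul]
    rw [← Finset.sum_mul, ← map_sum, Module.Basis.sum_repr]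

/-- Multiplicativity in the first variable. -/
def IsMul : Prop :=
  ∀ (W : Over (Spec (CommRingCat.of k))) (v v' : W ⟶ N) (g : W ⟶ M), LocallyOfFiniteType W.hom →
    pull (lift (v * v') g) χ = pull (lift v g) χ * pull (lift v' g) χ

/-- Value `1` at the unit. -/
def IsOne : Prop :=
  ∀ (W : Over (Spec (CommRingCat.of k))) (g : W ⟶ M), LocallyOfFiniteType W.hom →
    pull (lift (1 : W ⟶ N) g) χ = 1

/-- Separation of points. -/
def IsSep : Prop :=
  ∀ (W : Over (Spec (CommRingCat.of k))) (g g' : W ⟶ M), LocallyOfFiniteType W.hom →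
    pull (N ◁ g) χ = pull (N ◁ g') χ → g = g'

theorem pull_lift {W : Over (Spec (CommRingCat.of k))} (v : W ⟶ N) (g : W ⟶ M) (r : Fn N) (s : Fn M) :
    pull (lift v g) (pull (fst N M) r * pull (snd N M) s) = pull v r * pull g s := by
  rw [map_mul, pull_pull, pull_pull, lift_fst, lift_snd]

variable {χ}

theorem coef_mul [Fintype (Module.Free.ChooseBasisIndex k (Fn N))] (hm : IsMul χ)
    (j l : Module.Free.ChooseBasisIndex k (Fn N)) :
    coef χ j * coef χ l = ∑ m, pair (X := N) (Y := N) ((bas (N := N)).coord j) ((bas (N := N)).coord l)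
      (pull (fst N N * snd N N) ((bas (N := N)) m)) • coef χ m := by
  haveI := isFinite_tensor N N
  haveI := isFinite_tensor (N ⊗ N) M
  haveI : LocallyOfFiniteType ((N ⊗ N) ⊗ M).hom := inferInstance
  have h := hm ((N ⊗ N) ⊗ M) (fst (N ⊗ N) M ≫ fst N N) (fst (N ⊗ N) M ≫ snd N N) (snd (N ⊗ N) M)
    inferInstance
  rw [← MonObj.comp_mul, expand χ] at h
  simp only [map_sum, pull_lift, ← pull_pull] at h
  rw [Finset.sum_mul_sum] at h
  have h' := congrArg (T (M := M) (pair (X := N) (Y := N) ((bas (N := N)).coord j) ((bas (N := N)).coord l))) h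
  simp only [mul_mul_mul_comm _ (pull (snd (N ⊗ N) M) _), ← map_mul, map_sum, T_apply] at h'
  rw [h']
  classical
  simp [pair_tmul, Module.Basis.coord_apply, Finsupp.single_apply, ite_mul, ite_smul, Finset.sum_ite_eq']

theorem sum_coef [Fintype (Module.Free.ChooseBasisIndex k (Fn N))] (h1 : IsOne χ) :
    ∑ j, pull (1 : M ⟶ N) ((bas (N := N)) j) * coef χ j = 1 := by
  have h := h1 M (𝟙 M) inferInstance
  rw [expand χ] at h
  simpa only [map_sum, pull_lift, pull_id] using h

theorem pull_one_mem (c : Submodule k (Fn M)) {s : Fn M} (hs : s ∈ c) (r : Fn N) :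
    pull (1 : M ⟶ N) r * s ∈ c := by
  obtain ⟨a, ha⟩ := (algebraMap_unit_bijective (k := k)).2 (pull η[N] r)
  have : pull (1 : M ⟶ N) r = algebraMap k (Fn M) a := by
    rw [Hom.one_def, ← pull_pull, ← ha, AlgHom.commutes]
  rw [this, ← Algebra.smul_def]
  exact c.smul_mem a hs

theorem span_coef (hm : IsMul χ) (h1 : IsOne χ) (hs : IsSep χ) :
    Submodule.span k (Set.range (coef χ)) = ⊤ := by
  haveI := RedSplit98.Basic.module_finite N
  haveI := RedSplit98.Basic.module_finite M
  set V := Submodule.span k (Set.range (coef χ))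
  have hmem : ∀ j, coef χ j ∈ V := fun j => Submodule.subset_span ⟨j, rfl⟩
  have hone : (1 : Fn M) ∈ V := by
    rw [← sum_coef h1]
    exact V.sum_mem fun j _ => pull_one_mem V (hmem j) _
  have hmul : ∀ x y, x ∈ V → y ∈ V → x * y ∈ V := fun x y hx hy => by
    refine (Submodule.mul_le (M := V) (N := V) (P := V)).1 ?_ x hx y hy
    rw [Submodule.span_mul_span, Submodule.span_le]
    rintro _ ⟨_, ⟨j, rfl⟩, _, ⟨l, rfl⟩, rfl⟩
    show coef χ j * coef χ l ∈ V
    rw [coef_mul hm]
    exact V.sum_mem fun m _ => V.smul_mem _ (hmem m)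
  let B₀ : Subalgebra k (Fn M) := V.toSubalgebra hone hmul
  haveI : Module.Finite B₀ (Fn M) := Module.Finite.of_restrictScalars_finite k B₀ (Fn M)
  let R := Fn M ⊗[B₀] Fn M
  haveI : Module.Finite k B₀ := inferInstanceAs (Module.Finite k V)
  haveI : Module.Finite (Fn M) R := Module.Finite.base_change B₀ (Fn M) (Fn M)
  haveI : Module.Finite k R := Module.Finite.trans (Fn M) R
  let l : Fn M →ₐ[k] R := (Algebra.TensorProduct.includeLeft : Fn M →ₐ[k] R)
  let r : Fn M →ₐ[k] R := (Algebra.TensorProduct.includeRight : Fn M →ₐ[B₀] R).restrictScalars k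
  obtain ⟨g, hg⟩ := exists_homOf l
  obtain ⟨g', hg'⟩ := exists_homOf r
  have e : g = g' := by
    haveI := locallyOfFiniteType_spec (k := k) (R := R)
    refine hs _ g g' inferInstance ?_
    rw [expand χ]
    simp only [map_sum, map_mul, pull_pull, whiskerLeft_fst, whiskerLeft_snd]
    refine Finset.sum_congr rfl fun j _ => congrArg _ ?_
    rw [← pull_pull, ← pull_pull]
    congr 1
    refine (ConcreteCategory.bijective_of_isIso (Scheme.ΓSpecIso (CommRingCat.of R)).hom).1 ?_
    rw [hg, hg']
    exact (Algebra.TensorProduct.tmul_one_eq_one_tmul (A := Fn M) (B := Fn M) (⟨coef χ j, hmem j⟩ : B₀))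
  refine eq_top_iff.2 fun b _ => ?_
  have hb : ∀ s : Fn M, s ⊗ₜ[B₀] (1 : Fn M) = 1 ⊗ₜ[B₀] s := fun s => by
    have := (hg s).symm.trans ((congrArg (fun z => (Scheme.ΓSpecIso (CommRingCat.of R)).hom.hom (pull z s)) e).trans (hg' s))
    exact this
  obtain ⟨⟨a, ha⟩, rfl⟩ := Algebra.isEpi_iff_surjective_algebraMap_of_finite.1
    ((Algebra.isEpi_iff_forall_one_tmul_eq B₀ (Fn M)).2 fun s => (hb s).symm) b
  exact ha

theorem finrank_le (hm : IsMul χ) (h1 : IsOne χ) (hs : IsSep χ) :
    Module.finrank k (Fn M) ≤ Module.finrank k (Fn N) := by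
  haveI := RedSplit98.Basic.module_finite N
  rw [← finrank_top k (Fn M), ← span_coef hm h1 hs, Module.finrank_eq_card_chooseBasisIndex k (Fn N)]
  exact finrank_range_le_card (R := k) (coef χ)

theorem linearIndependent_coef (hm : IsMul χ) (h1 : IsOne χ) (hs : IsSep χ)
    (h : Module.finrank k (Fn M) = Module.finrank k (Fn N)) : LinearIndependent k (coef χ) := by
  haveI := RedSplit98.Basic.module_finite N
  exact linearIndependent_of_top_le_span_of_card_eq_finrank (span_coef hm h1 hs).ge
    (by rw [h, Module.finrank_eq_card_chooseBasisIndex])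

end Groth.Agent.H4.KerDual.Dual
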