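import Groth.Agent.Lib.H3.PairDesc
import Groth.Agent.H3.ThetaMaps
import Groth.Agent.H3.PicCalc
import Groth.Agent.Lib.TensorMod.Invertible
import Groth.Agent.H4.PicZero.Transpose
import Groth.Agent.Lib.GrpSch.Basic

/-!
# The character of the kernel attached to a class killed by a homomorphism

A class on `Y ⊗ T` whose pullback to `X ⊗ T` is trivial has a frame on `X ⊗ T`; translations by
points of the kernel multiply it by functions on `T`.
-/

set_option autoImplicit false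
set_option linter.style.haveILetI false
set_option linter.unusedSectionVars false

universe u

open CategoryTheory CategoryTheory.Limits MonoidalCategory CartesianMonoidalCategory MonObj AlgebraicGeometry Opposite
open Pseudofunctor Bicategory

noncomputable section

namespace Groth.Agent.H4.KerDual

open Groth.Agent.H3 Groth.Agent.Lib Groth.Agent.Lib.H3 Groth.Agent.Lib.H3.FrameRep

local instance (Y : Scheme.{u}) : PicGrp.Law Y := Groth.Agent.Lib.TensorMod.Invertible.law Y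

variable {k : Type u} [Field k] {X Y N : Over (Spec (CommRingCat.of k))} [GrpObj X] [GrpObj N]
  (f : X ⟶ Y) (i : N ⟶ X) [IsMonHom i]
  {T T' : Over (Spec (CommRingCat.of k))}

/-- Translation by a point of `N`. -/
def shift (v : T ⟶ N) : X ⊗ T ⟶ X ⊗ T := lift (fst X T * (snd X T ≫ v ≫ i)) (snd X T)

@[reassoc (attr := simp)]
theorem shift_fst (v : T ⟶ N) : shift i v ≫ fst X T = fst X T * (snd X T ≫ v ≫ i) := lift_fst _ _

@[reassoc (attr := simp)]
theorem shift_snd (v : T ⟶ N) : shift i v ≫ snd X T = snd X T := lift_snd _ _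

theorem shift_comp (v w : T ⟶ N) : shift i v ≫ shift i w = shift i (v * w) := by
  apply CartesianMonoidalCategory.hom_ext
  · rw [Category.assoc, shift_fst, MonObj.comp_mul, shift_snd_assoc, shift_fst, shift_fst,
      _root_.mul_assoc, MonObj.mul_comp, MonObj.comp_mul]
  · simp

theorem whiskerLeft_shift (g : T' ⟶ T) (v : T ⟶ N) :
    shift i (g ≫ v) ≫ (X ◁ g) = (X ◁ g) ≫ shift i v := by
  apply CartesianMonoidalCategory.hom_ext
  · simp [MonObj.comp_mul]
  · simp

variable {f i}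

/-- The pullback of a class by the homomorphism is trivial. -/
abbrev Killed (f : X ⟶ Y) (b : PicLoc.PicSet (Y ⊗ T).left) : Prop := PicCalc.ph (f ▷ T) b = 1

theorem Killed.pull {b : PicLoc.PicSet (Y ⊗ T).left} (h : Killed f b) (g : T' ⟶ T) :
    Killed f (PicCalc.ph (Y ◁ g) b) := by
  show PicCalc.ph _ _ = 1
  rw [← PicCalc.ph_comp, ← MonoidalCategory.whisker_exchange, PicCalc.ph_comp, show PicCalc.ph (f ▷ T) b = 1 from h,
    map_one]

/-- A frame of `M` along `f ▷ T`. -/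
abbrev Fr (f : X ⟶ Y) (T : Over (Spec (CommRingCat.of k))) (M : (Y ⊗ T).left.Modules) : Type u :=
  {P : FObj M (X ⊗ T).left // P.1.base = (f ▷ T).left}

theorem exists_fr {M : (Y ⊗ T).left.Modules} (hM : PicF.IsInvertible M)
    (h : Killed f (PicGrp.cls M hM)) : Nonempty (Fr f T M) := by
  have h' : PicGrp.cls ((Scheme.Modules.pullback (f ▷ T).left).obj M)
      (PicLoc.isInvertible_pullback _ hM) = 1 :=
    (Subtype.ext rfl : _ = PicCalc.ph (f ▷ T) (PicGrp.cls M hM)).trans h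
  obtain ⟨e⟩ := (PicGrp.cls_eq_one_iff _).1 h'
  exact ⟨⟨⟨mkH (f ▷ T).left e.inv, inferInstanceAs (IsIso e.inv)⟩, rfl⟩⟩

variable (hif : ∀ {U : Over (Spec (CommRingCat.of k))} (v : U ⟶ N) (x : U ⟶ X),
  (x * (v ≫ i)) ≫ f = x ≫ f)

include hif in
theorem shift_whiskerRight (v : T ⟶ N) : shift i v ≫ f ▷ T = f ▷ T := by
  apply CartesianMonoidalCategory.hom_ext
  · rw [Category.assoc, whiskerRight_fst, shift_fst_assoc]
    have := hif (snd X T ≫ v) (fst X T)
    rw [Category.assoc] at this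
    exact this
  · simp

/-- `c` is the function by which translation by `v` moves the frame. -/
def IsChr (v : T ⟶ N) {M : (Y ⊗ T).left.Modules} (P : Fr f T M) (c : Γ(T.left, ⊤)) : Prop :=
  (mapF (shift i v).left P.1).1 =
    Scalars.act (a := ob (X ⊗ T).left) ((snd X T).left.appTop.hom c) P.1.1

variable [IsProper X.hom] [GeometricallyIntegral X.hom]

include hif in
theorem exists_chr (v : T ⟶ N) {M : (Y ⊗ T).left.Modules} (P : Fr f T M) :
    ∃ c, IsUnit c ∧ IsChr (i := i) v P c := by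
  have e : (mapF (shift i v).left P.1).1.base = P.1.1.base := by
    show (shift i v).left ≫ P.1.1.base = _
    rw [P.2, ← Over.comp_left, shift_whiskerRight hif]
  obtain ⟨r, hr, hr'⟩ := exists_unit P.1 (mapF (shift i v).left P.1) e
  refine ⟨_, hr.map (lift (toUnit T ≫ η[X]) (𝟙 T)).left.appTop.hom, ?_⟩
  rw [IsChr, ← Scalars.eq_snd_appTop T r]
  exact hr'

omit [IsProper X.hom] [GeometricallyIntegral X.hom] in
theorem snd_appTop_injective : Function.Injective (snd X T).left.appTop.hom := by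
  refine Function.LeftInverse.injective (g := (lift (toUnit T ≫ η[X]) (𝟙 T)).left.appTop.hom) fun r => ?_
  rw [← CommRingCat.comp_apply, ← Scheme.Hom.comp_appTop, ← Over.comp_left, lift_snd]
  simp

theorem IsChr.unique {v : T ⟶ N} {M : (Y ⊗ T).left.Modules} {P : Fr f T M} {c c' : Γ(T.left, ⊤)}
    (h : IsChr (i := i) v P c) (h' : IsChr (i := i) v P c') : c = c' :=
  snd_appTop_injective (Scalars.act_injective (invertible_ob _) P.1.2 (h.symm.trans h'))

theorem IsChr.mul {v w : T ⟶ N} {M : (Y ⊗ T).left.Modules} {P : Fr f T M} {c d : Γ(T.left, ⊤)}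
    (h : IsChr (i := i) v P c) (h' : IsChr (i := i) w P d) : IsChr (i := i) (v * w) P (c * d) := by
  show (mapF (shift i (v * w)).left P.1).1 = _
  rw [← shift_comp, Over.comp_left, mapF_comp]
  show FrameRep.ι (shift i v).left ≫ (mapF (shift i w).left P.1).1 = _
  rw [h', mapF_act, ← CommRingCat.comp_apply, ← Scheme.Hom.comp_appTop, ← Over.comp_left, shift_snd]
  change Scalars.act _ (mapF (shift i v).left P.1).1 = _
  rw [h, Scalars.act_act, map_mul]

/-- `c` is the character of the class `b` at `v`. -/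
def CharOf (f : X ⟶ Y) (i : N ⟶ X) [IsMonHom i] (b : PicLoc.PicSet (Y ⊗ T).left) (v : T ⟶ N)
    (c : Γ(T.left, ⊤)) : Prop :=
  ∃ (M : (Y ⊗ T).left.Modules) (hM : PicF.IsInvertible M) (P : Fr f T M),
    PicGrp.cls M hM = b ∧ IsChr (i := i) v P c

include hif in
theorem exists_charOf {b : PicLoc.PicSet (Y ⊗ T).left} (hb : Killed f b) (v : T ⟶ N) :
    ∃ c, IsUnit c ∧ CharOf f i b v c := by
  obtain ⟨M, hM, rfl⟩ := PicGrp.exists_eq_cls b
  obtain ⟨P⟩ := exists_fr hM hb
  obtain ⟨c, hu, hc⟩ := exists_chr hif v P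
  exact ⟨c, hu, M, hM, P, rfl, hc⟩

/-- A frame of one module gives one of an isomorphic module. -/
theorem IsChr.transport {v : T ⟶ N} {M M' : (Y ⊗ T).left.Modules} (e : M ≅ M') {P : Fr f T M}
    {P' : Fr f T M'} {c : Γ(T.left, ⊤)} (h : IsChr (i := i) v P c) : IsChr (i := i) v P' c := by
  have hi' : IsIso ((Scheme.Modules.pullbackId (Y ⊗ T).left).inv.app M') :=
    ((Scheme.Modules.pullbackId _).symm.app M').isIso_hom
  let κ : pr M ⟶ pr M' := mkH (𝟙 _) (e.hom ≫ (Scheme.Modules.pullbackId (Y ⊗ T).left).inv.app M')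
  have hκ : IsIso κ.fiber := @IsIso.comp_isIso _ _ _ _ _ _ _ e.isIso_hom hi'
  let Q : FObj M' (X ⊗ T).left := ⟨P.1.1 ≫ κ, ThetaMaps.isIso_fiber_comp _ _ P.1.2 hκ⟩
  obtain ⟨r, -, hr⟩ := exists_unit Q P'.1
    (P'.2.trans ((Category.comp_id _).trans P.2).symm)
  show FrameRep.ι (shift i v).left ≫ P'.1.1 = _
  rw [hr]
  show FrameRep.ι (shift i v).left ≫ Scalars.act r (P.1.1 ≫ κ) = _
  rw [mapF_act, ← Category.assoc]
  change Scalars.act _ ((mapF (shift i v).left P.1).1 ≫ κ) = _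
  rw [h, Scalars.act_comp, Scalars.act_act, Scalars.act_act,
    show (shift i v).left.appTop.hom r = r from by
      rw [Scalars.eq_snd_appTop T r, ← CommRingCat.comp_apply, ← Scheme.Hom.comp_appTop,
        ← Over.comp_left, shift_snd], _root_.mul_comm]

theorem CharOf.unique {b : PicLoc.PicSet (Y ⊗ T).left} {v : T ⟶ N} {c c' : Γ(T.left, ⊤)}
    (h : CharOf f i b v c) (h' : CharOf f i b v c') : c = c' := by
  obtain ⟨M, hM, P, rfl, hc⟩ := h
  obtain ⟨M', hM', P', e, hc'⟩ := h'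
  obtain ⟨e⟩ := (PicGrp.cls_eq_cls_iff hM' hM).1 e
  exact (hc'.transport (P' := P) e).unique hc |>.symm

theorem CharOf.natural {b : PicLoc.PicSet (Y ⊗ T).left} {v : T ⟶ N} {c : Γ(T.left, ⊤)}
    (h : CharOf f i b v c) (g : T' ⟶ T) :
    CharOf f i (PicCalc.ph (Y ◁ g) b) (g ≫ v) (g.left.appTop.hom c) := by
  obtain ⟨M, hM, P, rfl, hc⟩ := h
  let M' := (Scheme.Modules.pullback (Y ◁ g).left).obj M
  let κ : pr M' ⟶ pr M := mkH (Y ◁ g).left (𝟙 M')
  have hκ : IsIso κ.fiber := inferInstanceAs (IsIso (𝟙 M'))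
  have hbase : (FrameRep.ι (X ◁ g).left ≫ P.1.1).base = (f ▷ T').left ≫ (Y ◁ g).left := by
    show (X ◁ g).left ≫ P.1.1.base = _
    rw [P.2, ← Over.comp_left, ← Over.comp_left, MonoidalCategory.whisker_exchange]
  obtain ⟨Q, ⟨hQb, hQ⟩, -⟩ := Cartesian.exists_unique_lift κ hκ (a := ob (X ⊗ T').left) (f ▷ T').left
    (mapF (X ◁ g).left P.1).1 hbase
  have hQi : IsIso Q.fiber := ThetaMaps.isIso_fiber_of_comp Q κ hκ (by rw [hQ]; exact (mapF _ P.1).2)
  refine ⟨M', PicLoc.isInvertible_pullback _ hM, ⟨⟨Q, hQi⟩, hQb⟩, Subtype.ext rfl, ?_⟩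
  show FrameRep.ι (shift i (g ≫ v)).left ≫ Q = Scalars.act _ Q
  have hb2 : (mapF (shift i v).left P.1).1.base = P.1.1.base := by rw [hc]; rfl
  refine Cartesian.eq_of_comp_eq κ hκ ?_ ?_
  · have e3 : shift i (g ≫ v) ≫ f ▷ T' = f ▷ T' := by
      have hv : (shift i v).left ≫ (f ▷ T).left = (f ▷ T).left := by
        rw [← P.2]; exact hb2
      apply CartesianMonoidalCategory.hom_ext
      · have e4 := congrArg (fun z => (X ◁ g) ≫ z ≫ fst Y T)
          (Over.OverMorphism.ext (f := shift i v ≫ f ▷ T) (g := f ▷ T) hv)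
        rw [← Category.assoc, ← Category.assoc, ← whiskerLeft_shift] at e4
        simpa using e4
      · simp
    show (shift i (g ≫ v)).left ≫ Q.base = Q.base
    rw [hQb, ← Over.comp_left, e3]
  · rw [Category.assoc, hQ, Scalars.act_comp, hQ]
    show FrameRep.ι _ ≫ FrameRep.ι (X ◁ g).left ≫ P.1.1 = _
    rw [← Category.assoc, FrameRep.ι_comp, ← Over.comp_left, whiskerLeft_shift, Over.comp_left, ← FrameRep.ι_comp,
      Category.assoc]
    change FrameRep.ι _ ≫ (mapF (shift i v).left P.1).1 = _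
    rw [hc, mapF_act, ← CommRingCat.comp_apply, ← Scheme.Hom.comp_appTop, ← Over.comp_left,
      whiskerLeft_snd]
    rfl

theorem CharOf.mul {b : PicLoc.PicSet (Y ⊗ T).left} {v w : T ⟶ N} {c d : Γ(T.left, ⊤)}
    (h : CharOf f i b v c) (h' : CharOf f i b w d) : CharOf f i b (v * w) (c * d) := by
  obtain ⟨M, hM, P, rfl, hc⟩ := h
  obtain ⟨M', hM', P', e, hd⟩ := h'
  obtain ⟨e⟩ := (PicGrp.cls_eq_cls_iff hM' hM).1 e
  exact ⟨M, hM, P, rfl, hc.mul (hd.transport e)⟩

variable [Flat f.left] [Surjective f.left] [QuasiCompact f.left]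
  (hker : ∀ {U : Over (Spec (CommRingCat.of k))} (x x' : U ⟶ X), x ≫ f = x' ≫ f →
    ∃ y : U ⟶ N, x * (y ≫ i) = x')

include hker hif in
/-- Killed classes with the same characters are equal. -/
theorem eq_of_charOf {b b' : PicLoc.PicSet (Y ⊗ T).left}
    (hb : Killed f b) (hb' : Killed f b')
    (H : ∀ {W : Over (Spec (CommRingCat.of k))} (g : W ⟶ T) (v : W ⟶ N) (c c' : Γ(W.left, ⊤)),
      CharOf f i (PicCalc.ph (Y ◁ g) b) (v) c → CharOf f i (PicCalc.ph (Y ◁ g) b') v c' → c = c') :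
    b = b' := by
  obtain ⟨M, hM, rfl⟩ := PicGrp.exists_eq_cls b
  obtain ⟨M', hM', rfl⟩ := PicGrp.exists_eq_cls b'
  obtain ⟨P⟩ := exists_fr hM hb
  obtain ⟨P'⟩ := exists_fr hM' hb'
  let q := (f ▷ T).left
  haveI : Flat q := GrpSch.whiskerRight_left_of f T (P := @Flat) inferInstance
  haveI : Surjective q := GrpSch.whiskerRight_left_of f T (P := @Surjective) inferInstance
  haveI : QuasiCompact q := GrpSch.whiskerRight_left_of f T (P := @QuasiCompact) inferInstance
  refine (PairDesc.exists_desc q (M' := Coh.structureModule (X ⊗ T).left) (M := M) (N := M') hM hM'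
    P.1.1 P.2 P.1.2 (𝟙 _) P'.1.1 (P'.2.trans (Category.comp_id _).symm) P'.1.2 ?_).elim fun Φ hΦ => ?_
  rotate_left
  · obtain ⟨φ, rfl⟩ := exists_mk Φ hΦ.1
    haveI : IsIso φ := hΦ.2.1
    exact (PicGrp.cls_eq_cls_iff hM hM').2
      ⟨asIso φ ≪≫ (Scheme.Modules.pullbackId (Y ⊗ T).left).app M'⟩
  intro W u α α' hα hα'
  have ha : α.base ≫ (f ▷ T).left = u := by
    rw [← P.2]; exact congrArg CoGrothendieck.Hom.base hα
  have ha' : α'.base ≫ (f ▷ T).left = u := by
    rw [← P.2]; exact congrArg CoGrothendieck.Hom.base hα'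
  let U : Over (Spec (CommRingCat.of k)) := Over.mk (u ≫ (Y ⊗ T).hom)
  let a : U ⟶ X ⊗ T := Over.homMk α.base (by
    show α.base ≫ (X ⊗ T).hom = u ≫ (Y ⊗ T).hom
    rw [← Over.w (f ▷ T), ← Category.assoc, ha])
  let a' : U ⟶ X ⊗ T := Over.homMk α'.base (by
    show α'.base ≫ (X ⊗ T).hom = u ≫ (Y ⊗ T).hom
    rw [← Over.w (f ▷ T), ← Category.assoc, ha'])
  have haa : a ≫ f ▷ T = a' ≫ f ▷ T := Over.OverMorphism.ext (ha.trans ha'.symm)
  obtain ⟨y, hy⟩ := hker (a ≫ fst X T) (a' ≫ fst X T) (by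
    have := congrArg (fun z => z ≫ fst Y T) haa
    simpa using this)
  let g : U ⟶ T := a ≫ snd X T
  have hg : a' ≫ snd X T = g := by
    have := congrArg (fun z => z ≫ snd Y T) haa
    simpa using this.symm
  let d : U ⟶ X ⊗ U := lift (a ≫ fst X T) (𝟙 U)
  have hd : d ≫ X ◁ g = a := by apply CartesianMonoidalCategory.hom_ext <;> simp [d, g]
  have hd' : d ≫ shift i y ≫ X ◁ g = a' := by
    apply CartesianMonoidalCategory.hom_ext
    · simp only [Category.assoc, whiskerLeft_fst, shift_fst, MonObj.comp_mul, d, lift_fst,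
        lift_snd_assoc, Category.id_comp]
      exact hy
    · simp [d, hg]
  obtain ⟨c₀, hu, h₀⟩ := exists_charOf hif (hb.pull g) y
  obtain ⟨c₀', -, h₀'⟩ := exists_charOf hif (hb'.pull g) y
  obtain rfl : c₀ = c₀' := H g y c₀ c₀' h₀ h₀'
  have tr : ∀ {K : (Y ⊗ T).left.Modules} (hK : PicF.IsInvertible K) (Q : Fr f T K) (c : Γ(U.left, ⊤)),
      CharOf f i (PicCalc.ph (Y ◁ g) (PicGrp.cls K hK)) y c →
      FrameRep.ι a'.left ≫ Q.1.1 = Scalars.act (a := ob U.left) c (FrameRep.ι a.left ≫ Q.1.1) := by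
    intro K hK Q c hc
    obtain ⟨r, -, hr⟩ := exists_unit (mapF (X ◁ g).left Q.1)
      (mapF (shift i y).left (mapF (X ◁ g).left Q.1)) (by
        show (shift i y).left ≫ (X ◁ g).left ≫ Q.1.1.base = (X ◁ g).left ≫ Q.1.1.base
        rw [Q.2, ← Over.comp_left, ← Over.comp_left, MonoidalCategory.whisker_exchange,
          ← Category.assoc, shift_whiskerRight hif, ← MonoidalCategory.whisker_exchange, Over.comp_left])
    let K' := (Scheme.Modules.pullback (Y ◁ g).left).obj K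
    let κ : pr K' ⟶ pr K := mkH (Y ◁ g).left (𝟙 K')
    have hκ : IsIso κ.fiber := inferInstanceAs (IsIso (𝟙 K'))
    obtain ⟨Q', ⟨hQb, hQ⟩, -⟩ := Cartesian.exists_unique_lift κ hκ (a := ob (X ⊗ U).left) (f ▷ U).left
      (mapF (X ◁ g).left Q.1).1 (by
        show (X ◁ g).left ≫ Q.1.1.base = _
        rw [Q.2, ← Over.comp_left, MonoidalCategory.whisker_exchange, Over.comp_left])
    have hQi : IsIso Q'.fiber :=
      ThetaMaps.isIso_fiber_of_comp Q' κ hκ (by rw [hQ]; exact (mapF _ Q.1).2)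
    obtain ⟨c₁, -, hc₁⟩ := exists_chr hif y (⟨⟨Q', hQi⟩, hQb⟩ : Fr f U K')
    obtain rfl : c₁ = c := CharOf.unique
      ⟨K', PicLoc.isInvertible_pullback _ hK, ⟨⟨Q', hQi⟩, hQb⟩, Subtype.ext rfl, hc₁⟩ hc
    have e1 : FrameRep.ι (shift i y).left ≫ (mapF (X ◁ g).left Q.1).1 =
        Scalars.act (a := ob (X ⊗ U).left) ((snd X U).left.appTop.hom c₁) (mapF (X ◁ g).left Q.1).1 := by
      rw [← hQ, ← Category.assoc]
      change (mapF (shift i y).left (⟨Q', hQi⟩ : FObj K' _)).1 ≫ κ = _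
      rw [hc₁, Scalars.act_comp]
    rw [← hd', ← hd, Over.comp_left, Over.comp_left, Over.comp_left, ← FrameRep.ι_comp,
      ← FrameRep.ι_comp, ← FrameRep.ι_comp, Category.assoc, Category.assoc, Category.assoc]
    change FrameRep.ι d.left ≫ FrameRep.ι (shift i y).left ≫ (mapF (X ◁ g).left Q.1).1 = _
    rw [e1, mapF_act, ← CommRingCat.comp_apply, ← Scheme.Hom.comp_appTop, ← Over.comp_left, lift_snd]
    rfl
  obtain ⟨s, hs⟩ := hu.exists_left_inv
  obtain ⟨β, ⟨hβb, hβ⟩, -⟩ := Cartesian.exists_unique_lift (FrameRep.ι a.left) (isIso_σ a.left)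
    (a := pr ((Scheme.Modules.pullback u).obj M)) (b := ob U.left) (𝟙 W) α (Category.id_comp _).symm
  let s' : Γ(W, ⊤) := β.base.appTop.hom s
  let γ' : pr ((Scheme.Modules.pullback u).obj M) ⟶ ob (X ⊗ T).left :=
    Scalars.act (a := pr ((Scheme.Modules.pullback u).obj M)) s' (β ≫ FrameRep.ι a'.left)
  have e2 : ∀ {K : (Y ⊗ T).left.Modules} (hK : PicF.IsInvertible K) (Q : Fr f T K),
      CharOf f i (PicCalc.ph (Y ◁ g) (PicGrp.cls K hK)) y c₀ → γ' ≫ Q.1.1 = α ≫ Q.1.1 := by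
    intro K hK Q hc
    rw [Scalars.act_comp, Category.assoc, tr hK Q c₀ hc, Scalars.comp_act, Scalars.act_act,
      ← map_mul, _root_.mul_comm, hs, map_one, Scalars.act_one, ← Category.assoc, hβ]
  have hγ : γ' = α' := by
    refine Cartesian.eq_of_comp_eq P.1.1 P.1.2 ?_ ?_
    · show β.base ≫ a'.left = α'.base
      rw [hβb]
      exact Category.id_comp _
    · rw [e2 hM P h₀, hα, hα']
  rw [← hγ, e2 hM' P' h₀']

end Groth.Agent.H4.KerDual
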