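import Groth.Agent.H4.KerDual.BidualRel
import Groth.Agent.H4.PicZero.RelCube
import Groth.Agent.H4.PicZero.Family
import Groth.Agent.H4.AbSchMul
import Groth.Agent.H2.Rigid.GeomIrred
import Groth.Agent.Lib.Ample.Pullback
import Groth.Prelude.Def_AgPol

/-!
# The Poincaré class on the graph of a polarization
-/

set_option autoImplicit false
set_option linter.style.haveILetI false
set_option linter.unusedSectionVars false

universe u

open CategoryTheory CategoryTheory.Limits MonoidalCategory CartesianMonoidalCategory MonObj AlgebraicGeometry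

noncomputable section

namespace Groth.Agent.H4.KerDual

open Groth.Agent.H3 Groth.Agent.H4.PicZero Groth.Agent.Lib Groth.Agent.Lib.H3

local instance graphPolLaw (Y : Scheme.{u}) : PicGrp.Law Y := Groth.Agent.Lib.TensorMod.Invertible.law Y

variable {S : Scheme.{u}}

theorem bcPt_one {S' : Scheme.{u}} (t : S' ⟶ S) {A : Over S} [GrpObj A] (U : Over S') :
    bcPt t (1 : res t U ⟶ A) = 1 := by
  have h := bcPt_mul t (1 : res t U ⟶ A) 1
  rw [_root_.mul_one] at h
  exact mul_eq_left.1 h.symm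

theorem one_bc_fst {S' : Scheme.{u}} (t : S' ⟶ S) {A : Over S} [GrpObj A] (U : Over S') :
    (1 : U ⟶ Red.bc t A).left ≫ pullback.fst A.hom t = (1 : res t U ⟶ A).left := by
  rw [← bcPt_one t U]
  exact bcPt_fst t _

variable [IsLocallyNoetherian S] {A At : Over S} [GrpObj A] [IsCommMonObj A]
  [IsProper A.hom] [Smooth A.hom] [GeometricallyConnected A.hom] [GrpObj At] [IsCommMonObj At]
  {φ : AgPol.DualMap A At} (hdual : AbDual.IsDualAV Scheme.fppfPrecoverage A At φ)
  {x : PicLoc.PicSet (A ⊗ At).left} (hx0 : AbDual.IsPicZeroCl A.hom At x.1) (hxr : PhiInj.rig x = 1)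
  (hxφ : ∀ {V : Over S} (g : V ⟶ At), φ V (PicCalc.ph (A ◁ g) x).1 = g)

include hx0 hxr in
/-- Additivity of the Poincaré class along a polarization in the first variable. -/
theorem graph_add (lam : A ⟶ At) {V : Over S} (p q r : V ⟶ A) :
    PicCalc.ph (lift (p * q) r) (PicCalc.ph (A ◁ lam) x) =
      PicCalc.ph (lift p r) (PicCalc.ph (A ◁ lam) x) * PicCalc.ph (lift q r) (PicCalc.ph (A ◁ lam) x) := by
  haveI := H2.Rigid.GeomIrred.geometricallyIntegral_of_smooth A.hom
  haveI : IsLocallyNoetherian A.left := LocallyOfFiniteType.isLocallyNoetherian A.hom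
  have hc : AbDual.IsPicZeroCl A.hom A (PicCalc.ph (A ◁ lam) x).1 :=
    isPicZeroCl_ph lam _ (whiskerLeft_snd _ _) hx0
  have h := ph_lift_mul hc p q r
  have h1 : PicCalc.ph (lift (1 : V ⟶ A) r) (PicCalc.ph (A ◁ lam) x) = 1 := by
    have e : lift (1 : V ⟶ A) r = r ≫ lift (1 : A ⟶ A) (𝟙 A) := by
      rw [comp_lift, MonObj.comp_one, Category.comp_id]
    rw [e, PicCalc.ph_comp]
    show PicCalc.ph r (PhiInj.rig (PicCalc.ph (A ◁ lam) x)) = 1
    rw [PhiInj.rig_ph, hxr, map_one, map_one]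
  rwa [h1, _root_.mul_one] at h

include hdual hx0 hxr hxφ in
/-- The Poincaré class is trivial along the unit section of the dual. -/
theorem graph_one_right (lam : A ⟶ At) [IsMonHom lam] {V : Over S} (p : V ⟶ A) :
    PicCalc.ph (lift p (1 : V ⟶ A)) (PicCalc.ph (A ◁ lam) x) = 1 := by
  haveI := H2.Rigid.GeomIrred.geometricallyIntegral_of_smooth A.hom
  haveI : IsLocallyNoetherian (𝟙_ (Over S)).left := inferInstanceAs (IsLocallyNoetherian S)
  let I := 𝟙_ (Over S)
  let b : PicLoc.PicSet (A ⊗ I).left := PicCalc.ph (A ◁ η[At]) x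
  have hb : AbDual.IsPicZeroCl A.hom I b.1 := isPicZeroCl_ph _ _ (whiskerLeft_snd _ _) hx0
  have h1 : AbDual.IsPicZeroCl A.hom I (1 : PicLoc.PicSet (A ⊗ I).left).1 := by
    have e : ((1 : A ⟶ A) ▷ I) = snd A I ≫ lift (1 : I ⟶ A) (𝟙 I) := by
      rw [comp_lift, MonObj.comp_one, Category.comp_id]
      apply CartesianMonoidalCategory.hom_ext <;> simp [MonObj.comp_one]
    have e1 : PicCalc.ph ((1 : A ⟶ A) ▷ I) b = 1 := by
      rw [e, PicCalc.ph_comp]
      show PicCalc.ph _ (PhiInj.rig b) = 1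
      rw [PhiInj.rig_ph, hxr, map_one, map_one]
    rw [← e1]
    exact isPicZeroCl_ph (𝟙 I) _ (by rw [whiskerRight_snd, Category.comp_id]) hb
  have hb1 : b = 1 := PhiInj.eq_of_phi_eq hdual hb h1 (by rw [PhiInj.rig_ph, hxr, map_one]) (map_one _)
    ((hxφ η[At]).trans ((MonObj.one_eq_one (M := At)).symm.trans (phi_one hdual h1).symm))
  have e : lift p (1 : V ⟶ A) ≫ (A ◁ lam) = lift p (toUnit V) ≫ (A ◁ η[At]) := by
    rw [lift_whiskerLeft, lift_whiskerLeft, Hom.one_def, Category.assoc, IsMonHom.one_hom]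
  rw [← PicCalc.ph_comp, e, PicCalc.ph_comp]
  show PicCalc.ph _ b = 1
  rw [hb1, map_one]

variable {lam : A ⟶ At} (hpol : AgPol.IsPolarization A At φ lam)

include hdual hx0 hxr hxφ hpol in
/-- The Poincaré class along a polarization is symmetric. -/
theorem graph_symm {V : Over S} (p q : V ⟶ A) :
    PicCalc.ph (lift p q) (PicCalc.ph (A ◁ lam) x) = PicCalc.ph (lift q p) (PicCalc.ph (A ◁ lam) x) := by
  haveI := hpol.1
  haveI := H2.Rigid.GeomIrred.geometricallyIntegral_of_smooth A.hom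
  haveI : IsLocallyNoetherian A.left := LocallyOfFiniteType.isLocallyNoetherian A.hom
  haveI : IsLocallyNoetherian (𝟙_ (Over S)).left := inferInstanceAs (IsLocallyNoetherian S)
  let c : PicLoc.PicSet (A ⊗ A).left := PicCalc.ph (A ◁ lam) x
  suffices h : PicCalc.ph (lift (snd A A) (fst A A)) c * c⁻¹ = 1 by
    have h' := congrArg (PicCalc.ph (lift p q)) (mul_inv_eq_one.1 h)
    rw [← PicCalc.ph_comp, comp_lift, lift_fst, lift_snd] at h'
    exact h'.symm
  let f : A ⊗ A ⊗ 𝟙_ (Over S) ⟶ A ⊗ A := A ◁ fst A (𝟙_ (Over S))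
  let d := PicCalc.ph (lift (snd A A) (fst A A)) c * c⁻¹
  suffices h : PicCalc.ph f d = 1 by
    have h' := congrArg (PicCalc.ph (lift (fst A A) (lift (snd A A) (toUnit _)))) h
    rw [map_one, ← PicCalc.ph_comp, show lift (fst A A) (lift (snd A A) (toUnit _)) ≫ f = 𝟙 _ from by
      apply CartesianMonoidalCategory.hom_ext <;> simp [f], PicCalc.ph_id] at h'
    exact h'
  have hd : ∀ {W : Over S} (g : W ⟶ A ⊗ A), PicCalc.ph g d =
      PicCalc.ph (lift (g ≫ snd A A) (g ≫ fst A A)) c * (PicCalc.ph g c)⁻¹ := by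
    intro W g
    rw [map_mul, map_inv, ← PicCalc.ph_comp, comp_lift]
  refine eq_one_of_fibres η[A] η[A] ?_ ?_ fun s => ?_
  · rw [← PicCalc.ph_comp, hd]
    have e : lift (toUnit (A ⊗ 𝟙_ (Over S)) ≫ η[A]) (𝟙 _) ≫ f = lift (1 : A ⊗ 𝟙_ _ ⟶ A) (fst A _) := by
      apply CartesianMonoidalCategory.hom_ext <;> simp [f, Hom.one_def]
    rw [e, lift_fst, lift_snd, graph_one_right hdual hx0 hxr hxφ]
    have e2 : PicCalc.ph (lift (1 : A ⊗ 𝟙_ _ ⟶ A) (fst A _)) c = 1 := by
      have h := graph_add hx0 hxr lam (1 : A ⊗ 𝟙_ _ ⟶ A) 1 (fst A _)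
      rw [_root_.mul_one] at h
      exact mul_eq_left.1 h.symm
    rw [e2, inv_one, _root_.mul_one]
  · rw [← PicCalc.ph_comp, hd]
    have e : lift (fst A (𝟙_ (Over S))) (lift (toUnit (A ⊗ 𝟙_ (Over S)) ≫ η[A]) (snd A _)) ≫ f =
        lift (fst A _) (1 : A ⊗ 𝟙_ _ ⟶ A) := by
      apply CartesianMonoidalCategory.hom_ext <;> simp [f, Hom.one_def]
    rw [e, lift_fst, lift_snd, graph_one_right hdual hx0 hxr hxφ, inv_one, _root_.mul_one]
    have h := graph_add hx0 hxr lam (1 : A ⊗ 𝟙_ _ ⟶ A) 1 (fst A _)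
    rw [_root_.mul_one] at h
    exact mul_eq_left.1 h.symm
  · let Ω := AlgebraicClosure (S.residueField s)
    let t : Spec (CommRingCat.of Ω) ⟶ S :=
      Spec.map (CommRingCat.ofHom (algebraMap (S.residueField s) Ω)) ≫ S.fromSpecResidueField s
    refine ⟨Ω, inferInstance, t, (Scheme.Hom.comp_apply _ _ _).trans (S.fromSpecResidueField_apply s _), ?_⟩
    rw [← PicCalc.ph_comp, hd, mul_inv_eq_one]
    obtain ⟨L, hLa, N, hN, hN', hφN⟩ := hpol.2 Ω t
    let A' := Red.bc t A
    haveI : IsProper A'.hom := inferInstanceAs (IsProper (pullback.snd A.hom t))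
    haveI : Smooth A'.hom := inferInstanceAs (Smooth (pullback.snd A.hom t))
    haveI : GeometricallyConnected A'.hom := inferInstanceAs (GeometricallyConnected (pullback.snd A.hom t))
    haveI := H2.Rigid.GeomIrred.geometricallyIntegral_of_smooth A'.hom
    haveI : IsCommMonObj A' := isCommMonObj_of_isProper_of_geometricallyIntegral A'
    haveI : IsLocallyNoetherian A'.left := LocallyOfFiniteType.isLocallyNoetherian A'.hom
    have hL : PicF.IsInvertible L :=
      Ample.RelAmple.isInvertible_of_isRelAmple ((Ample.RelAmple.isRelAmple_iff_isAmple A'.hom).2 hLa)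
    let W : Over S := res t (A' ⊗ A')
    let P₁ : W ⟶ A := Over.homMk ((fst A' A').left ≫ pullback.fst A.hom t) (by
      show ((fst A' A').left ≫ pullback.fst A.hom t) ≫ A.hom = (A' ⊗ A').hom ≫ t
      rw [Category.assoc, pullback.condition, ← Category.assoc]
      exact congrArg (· ≫ t) (Over.w (fst A' A')))
    let P₂ : W ⟶ A := Over.homMk ((snd A' A').left ≫ pullback.fst A.hom t) (by
      show ((snd A' A').left ≫ pullback.fst A.hom t) ≫ A.hom = (A' ⊗ A').hom ≫ t
      rw [Category.assoc, pullback.condition, ← Category.assoc]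
      exact congrArg (· ≫ t) (Over.w (snd A' A')))
    let cK : PicLoc.PicSet (A' ⊗ A').left := PicCalc.ph (lift P₁ P₂) c
    have hm : (lift P₁ P₂).left = bcProd t A A := by
      rw [bcProd]
      apply pullback.hom_ext
      · refine (congrArg Over.Hom.left (lift_fst P₁ P₂)).trans ?_
        rw [Category.assoc, PicF.XTmap, pullback.lift_fst, Category.comp_id]
        exact (pullbackLeftPullbackSndIso_hom_fst _ _ _).symm
      · refine (congrArg Over.Hom.left (lift_snd P₁ P₂)).trans ?_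
        rw [Category.assoc, PicF.XTmap, pullback.lift_snd]
        exact (pullbackLeftPullbackSndIso_hom_snd_assoc _ _ _ _).symm
    have hc : AbDual.IsPicZeroCl A.hom A c.1 := isPicZeroCl_ph lam _ (whiskerLeft_snd _ _) hx0
    have hcK : cK.1 = PicF.pullCl (AgPol.bcXTIso t A A').hom (PicF.pullCl (PicF.XTmap A.hom (bcFst t A)) c.1) := by
      show PicF.pullCl (lift P₁ P₂).left c.1 = _
      rw [hm, bcProd, PicLoc.pullCl_comp]
    have hcK0 : AbDual.IsPicZeroCl A'.hom A' cK.1 := by
      rw [hcK]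
      exact isPicZeroCl_bc_hom t (isPicZeroCl_pullCl (bcFst t A).left _ (pullback.lift_snd _ _ _) hc)
    have hbd := isDualAV_bc t hdual
    have hcKφ : AgPol.bcDual t A At φ A' cK.1 = (Over.pullback t).map lam := by
      refine bcPt_ext t ?_
      rw [bcDual_eq, bcPt_fst, hcK, ← PicLoc.pullCl_comp (AgPol.bcXTIso t A A').inv, Iso.inv_hom_id,
        PicLoc.pullCl_id, hdual.relPic.natural _ _ _ _ hc, hxφ lam]
      exact (pullback.lift_fst _ _ _).symm
    have hcKr : PhiInj.rig cK = 1 := by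
      let j : res t A' ⟶ W := Over.homMk (lift (1 : A' ⟶ A') (𝟙 A')).left (by
        show _ ≫ (A' ⊗ A').hom ≫ t = A'.hom ≫ t
        rw [← Category.assoc]
        exact congrArg (· ≫ t) (Over.w (lift (1 : A' ⟶ A') (𝟙 A'))))
      have e1 : j ≫ P₁ = 1 := by
        apply Over.OverMorphism.ext
        show (lift (1 : A' ⟶ A') (𝟙 A')).left ≫ (fst A' A').left ≫ pullback.fst A.hom t = _
        rw [← Category.assoc, ← Over.comp_left, lift_fst]
        exact one_bc_fst t A'
      show PicCalc.ph j (PicCalc.ph (lift P₁ P₂) c) = 1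
      rw [← PicCalc.ph_comp, comp_lift, e1]
      have h := graph_add hx0 hxr lam (1 : res t A' ⟶ A) 1 (j ≫ P₂)
      rw [_root_.mul_one] at h
      exact mul_eq_left.1 h.symm
    let n : PicLoc.PicSet (A' ⊗ A').left := PicGrp.cls N hN
    have hn0 := DualSep.isPicZeroCl_lambda hL hN hN'
    have hnr : PhiInj.rig n = 1 := by
      haveI : Subsingleton (𝟙_ (Over (Spec (CommRingCat.of Ω)))).left :=
        inferInstanceAs (Subsingleton (Spec (CommRingCat.of Ω)))
      haveI : Nonempty (𝟙_ (Over (Spec (CommRingCat.of Ω)))).left :=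
        inferInstanceAs (Nonempty (Spec (CommRingCat.of Ω)))
      have e : lift (1 : A' ⟶ A') (𝟙 A') ≫ lift (snd A' A') (fst A' A') = lift (𝟙 A') (1 : A' ⟶ A') := by
        rw [comp_lift, lift_snd, lift_fst]
      have h := DualSep.lambda_rel hL hN hN' (1 : A' ⟶ A') (𝟙 A')
      have h0 : PicCalc.ph (1 : A' ⟶ A') (PicGrp.cls L hL) = 1 := by
        rw [Hom.one_def, PicCalc.ph_comp, PicCalc.eq_one_of_subsingleton (PicCalc.ph η[A'] _), map_one]
      rw [h0, _root_.mul_one, _root_.one_mul] at h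
      exact mul_eq_right.1 h
    have hnK : n = cK := PhiInj.eq_of_phi_eq hbd hn0 hcK0 hnr hcKr (hφN.trans hcKφ.symm)
    have hnsymm : PicCalc.ph (lift (snd A' A') (fst A' A')) n = n := by
      have h1 := DualSep.lambda_rel hL hN hN' (snd A' A') (fst A' A')
      have h2 := DualSep.lambda_rel hL hN hN' (fst A' A') (snd A' A')
      rw [mul_comm (snd A' A') (fst A' A'), ← h2, lift_fst_snd, PicCalc.ph_id, mul_right_comm] at h1
      exact mul_right_cancel (mul_right_cancel h1)
    rw [hnK] at hnsymm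
    let pr : A ⊗ A ⊗ fieldPt (Z := 𝟙_ (Over S)) t ⟶ fieldPt (Z := 𝟙_ (Over S)) t := snd A _ ≫ snd A _
    let V : Over (Spec (CommRingCat.of Ω)) := Over.mk pr.left
    let g : A ⊗ A ⊗ fieldPt (Z := 𝟙_ (Over S)) t ⟶ A ⊗ A :=
      A ◁ (A ◁ fieldPtHom (Z := 𝟙_ (Over S)) t) ≫ f
    have hw : ∀ z : A ⊗ A ⊗ fieldPt (Z := 𝟙_ (Over S)) t ⟶ A, z.left ≫ A.hom = pr.left ≫ t := fun z => by
      rw [Over.w z, ← Over.w pr]
      exact congrArg (pr.left ≫ ·) (Category.comp_id t)
    let p' : V ⟶ A' := Over.homMk (pullback.lift (g ≫ fst A A).left pr.left (hw _)) (pullback.lift_snd _ _ _)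
    let q' : V ⟶ A' := Over.homMk (pullback.lift (g ≫ snd A A).left pr.left (hw _)) (pullback.lift_snd _ _ _)
    let j : A ⊗ A ⊗ fieldPt (Z := 𝟙_ (Over S)) t ⟶ W := Over.homMk (lift p' q').left (by
      show _ ≫ (A' ⊗ A').hom ≫ t = _
      rw [← Category.assoc]
      refine (congrArg (· ≫ t) (Over.w (lift p' q'))).trans ?_
      rw [← Over.w pr]
      exact congrArg (pr.left ≫ ·) (Category.comp_id t).symm)
    have ej₁ : j ≫ P₁ = g ≫ fst A A := by
      apply Over.OverMorphism.ext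
      show (lift p' q').left ≫ (fst A' A').left ≫ pullback.fst A.hom t = _
      rw [← Category.assoc, ← Over.comp_left, lift_fst]
      exact pullback.lift_fst _ _ _
    have ej₂ : j ≫ P₂ = g ≫ snd A A := by
      apply Over.OverMorphism.ext
      show (lift p' q').left ≫ (snd A' A').left ≫ pullback.fst A.hom t = _
      rw [← Category.assoc, ← Over.comp_left, lift_snd]
      exact pullback.lift_fst _ _ _
    let b : W ⟶ W := Over.homMk (lift (snd A' A') (fst A' A')).left (by
      show _ ≫ (A' ⊗ A').hom ≫ t = (A' ⊗ A').hom ≫ t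
      rw [← Category.assoc]
      exact congrArg (· ≫ t) (Over.w (lift (snd A' A') (fst A' A'))))
    have eb₁ : b ≫ P₁ = P₂ := by
      apply Over.OverMorphism.ext
      show (lift (snd A' A') (fst A' A')).left ≫ (fst A' A').left ≫ _ = (snd A' A').left ≫ _
      rw [← Category.assoc, ← Over.comp_left, lift_fst]
    have eb₂ : b ≫ P₂ = P₁ := by
      apply Over.OverMorphism.ext
      show (lift (snd A' A') (fst A' A')).left ≫ (snd A' A').left ≫ _ = (fst A' A').left ≫ _
      rw [← Category.assoc, ← Over.comp_left, lift_snd]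
    clear_value c
    have key : PicCalc.ph b (PicCalc.ph (lift P₁ P₂) c) = PicCalc.ph (lift P₁ P₂) c := hnsymm
    rw [← PicCalc.ph_comp, comp_lift, eb₁, eb₂] at key
    have key' := congrArg (PicCalc.ph j) key
    rw [← PicCalc.ph_comp, ← PicCalc.ph_comp, comp_lift, comp_lift, ej₁, ej₂, ← comp_lift, ← comp_lift,
      lift_fst_snd, Category.comp_id] at key'
    rw [← comp_lift]
    exact key'

include hdual hx0 hxr hxφ hpol in
theorem graph_pow_right (k : ℕ) {V : Over S} (p q : V ⟶ A) :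
    PicCalc.ph (lift p (q ^ k)) (PicCalc.ph (A ◁ lam) x) = PicCalc.ph (lift p q) (PicCalc.ph (A ◁ lam) x) ^ k := by
  induction k with
  | zero => rw [pow_zero, pow_zero, graph_symm hdual hx0 hxr hxφ hpol]; exact (by
      have h := graph_add hx0 hxr lam (1 : V ⟶ A) 1 p
      rw [_root_.mul_one] at h
      exact mul_eq_left.1 h.symm)
  | succ k ih =>
    rw [pow_succ, pow_succ, ← ih, graph_symm hdual hx0 hxr hxφ hpol, graph_add hx0 hxr,
      graph_symm hdual hx0 hxr hxφ hpol, graph_symm hdual hx0 hxr hxφ hpol q p]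

include hdual hx0 hxr hxφ hpol in
/-- The Lambda class of the pullback along the graph of a power of a polarization. -/
theorem graph_lambda (k : ℕ) {V : Over S} (p q : V ⟶ A) :
    PicCalc.ph (lift (p * q) ((p * q) ≫ lam ^ k)) x =
      PicCalc.ph (lift p q) (PicCalc.ph (A ◁ (lam ^ k)) x) * PicCalc.ph (lift p q) (PicCalc.ph (A ◁ (lam ^ k)) x) *
        PicCalc.ph (lift p (p ≫ lam ^ k)) x * PicCalc.ph (lift q (q ≫ lam ^ k)) x := by
  haveI := hpol.1
  have hk : ∀ {W : Over S} (a b : W ⟶ A), PicCalc.ph (lift a (b ≫ lam ^ k)) x =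
      PicCalc.ph (lift a b) (PicCalc.ph (A ◁ lam) x) ^ k := by
    intro W a b
    have hpw : b ≫ lam ^ k = (b ^ k) ≫ lam := by
      rw [MonObj.comp_pow]
      exact (map_pow (IsMonHom.monoidHom lam W) b k).symm
    rw [hpw, ← graph_pow_right hdual hx0 hxr hxφ hpol, ← PicCalc.ph_comp, lift_whiskerLeft]
  have hpq : PicCalc.ph (lift p q) (PicCalc.ph (A ◁ (lam ^ k)) x) = PicCalc.ph (lift p q) (PicCalc.ph (A ◁ lam) x) ^ k := by
    rw [← PicCalc.ph_comp, lift_whiskerLeft, hk]
  rw [hk, hk, hk, hpq, ← mul_pow, ← mul_pow, ← mul_pow]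
  congr 1
  rw [graph_add hx0 hxr, graph_symm hdual hx0 hxr hxφ hpol p (p * q), graph_symm hdual hx0 hxr hxφ hpol q (p * q),
    graph_add hx0 hxr, graph_add hx0 hxr, graph_symm hdual hx0 hxr hxφ hpol q p]
  ac_rfl

end Groth.Agent.H4.KerDual
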