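import Groth.Agent.H4.KerDual.Main
import Groth.Agent.H4.DualSep.Lambda
import Groth.Agent.H4.KLFinite
import Groth.Agent.H4.AVHom
import Groth.Agent.H4.Chow.Purely
import Groth.Agent.H4.IsogenyFactor
import Groth.Agent.H63.AVProjective
import Groth.Agent.Lib.Flat55.FlatEquidim
import Mathlib.AlgebraicGeometry.Group.Abelian

/-!
# The morphism of an ample module is quasi-finite, and transposes are homomorphisms
-/

set_option autoImplicit false
set_option linter.style.haveILetI false
set_option linter.unusedSectionVars false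

universe u

open CategoryTheory CategoryTheory.Limits MonoidalCategory CartesianMonoidalCategory MonObj AlgebraicGeometry

noncomputable section

namespace Groth.Agent.H4.KerDual

open Groth.Agent.H3 Groth.Agent.H4.PicZero Groth.Agent.Lib Groth.Agent.Lib.H3

local instance (Y : Scheme.{u}) : PicGrp.Law Y := Groth.Agent.Lib.TensorMod.Invertible.law Y

variable {k : Type u} [Field k]

theorem isPicZeroCl_one {A T : Over (Spec (CommRingCat.of k))} [GrpObj A]
    {c : PicLoc.PicSet (A ⊗ T).left} (hc : AbDual.IsPicZeroCl A.hom T c.1) :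
    AbDual.IsPicZeroCl A.hom T (1 : PicLoc.PicSet (A ⊗ T).left).1 := by
  let m : A ⊗ T ⟶ A ⊗ T := lift (1 : A ⊗ T ⟶ A) (snd A T)
  have hm : m = snd A T ≫ lift (1 : T ⟶ A) (𝟙 T) := by
    apply CartesianMonoidalCategory.hom_ext <;> simp [m]
  have hz := isPicZeroCl_twist hc (PhiInj.rig c)⁻¹
  have hr : PhiInj.rig (c * PicCalc.ph (snd A T) (PhiInj.rig c)⁻¹) = 1 := by
    rw [PhiInj.rig_mul, PhiInj.rig_snd, mul_inv_cancel]
  have h1 : PicCalc.ph m (c * PicCalc.ph (snd A T) (PhiInj.rig c)⁻¹) = 1 := by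
    rw [hm, PicCalc.ph_comp]
    exact (congrArg (PicCalc.ph (snd A T)) hr).trans (map_one _)
  rw [← h1]
  exact isPicZeroCl_ph (𝟙 T) m (by simp [m]) hz

theorem locallyOfFiniteType_id : LocallyOfFiniteType (𝟙_ (Over (Spec (CommRingCat.of k)))).hom :=
  inferInstanceAs (LocallyOfFiniteType (𝟙 (Spec (CommRingCat.of k))))

/-- A transpose preserves the unit. -/
theorem unit_comp_transpose {X Y Xt Yt : Over (Spec (CommRingCat.of k))} [GrpObj X] [GrpObj Y]
    [GrpObj Xt] [GrpObj Yt]
    {φX : ∀ T : Over (Spec (CommRingCat.of k)), PicF.Cl (PicF.XT X.hom T) → (T ⟶ Xt)}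
    {φY : ∀ T : Over (Spec (CommRingCat.of k)), PicF.Cl (PicF.XT Y.hom T) → (T ⟶ Yt)}
    (hX : AbDual.IsDualAV Scheme.fppfPrecoverage X Xt φX)
    (hY : AbDual.IsDualAV Scheme.fppfPrecoverage Y Yt φY)
    {f : X ⟶ Y} [IsMonHom f] {ft : Yt ⟶ Xt} (hft : AbDual.IsTranspose f φX φY ft) :
    η[Yt] ≫ ft = η[Xt] := by
  apply Over.OverMorphism.ext
  refine hom_ext_of_fppf fun x => ?_
  obtain ⟨U, u, hu, hu', b, hx, hb⟩ := exists_rep hY η[Yt] x
  refine ⟨U.left, u.left, hu, hx, ?_⟩
  have h1 : AbDual.IsPicZeroCl Y.hom U (1 : PicLoc.PicSet (Y ⊗ U).left).1 := isPicZeroCl_one hb.zero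
  have h2 : AbDual.IsPicZeroCl X.hom U (1 : PicLoc.PicSet (X ⊗ U).left).1 := isPicZeroCl_one_of_rep hb
  have e := hft U _ h1
  rw [bcMap_eq, ← PicCalc.ph_val, map_one, phi_one hX h2, phi_one hY h1, Hom.one_def,
    Hom.one_def, toUnit_unique (toUnit U) u] at e
  rw [Category.assoc] at e
  exact (congrArg Over.Hom.left e).symm

/-- A point at which the Lambda module comes from the parameters lies in `K(L)`. -/
theorem mumford_of_lambda {S : Scheme.{u}} {A T : Over S} [GrpObj A] {L : A.left.Modules}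
    (hL : PicF.IsInvertible L) {N : (PicF.XT A.hom A).Modules} (hN : PicF.IsInvertible N)
    (hN' : AgPol.IsLambdaSheaf (μ[A].left : PicF.XT A.hom A ⟶ A.left) (fst A A).left (snd A A).left L N)
    (a : T ⟶ A) {n : PicLoc.PicSet T.left}
    (h : PicCalc.ph (A ◁ a) (PicGrp.cls N hN : PicLoc.PicSet (A ⊗ A).left) = PicCalc.ph (snd A T) n) :
    ThetaGrp.IsMumfordTriv A L a := by
  refine (PicCalc.mumford_iff A hL a).2 ⟨n * PicCalc.ph a (PicGrp.cls L hL), ?_⟩
  have h3 := DualSep.lambda_rel hL hN hN' (fst A T) (snd A T ≫ a)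
  have h4 : lift (fst A T) (snd A T ≫ a) = A ◁ a := by
    apply CartesianMonoidalCategory.hom_ext <;> simp
  rw [h4, h, PicCalc.ph_comp (snd A T) a] at h3
  show PicCalc.ph (ThetaGrp.transl A a ≫ fst A T) (PicGrp.cls L hL) = _
  rw [ThetaGrp.transl_fst, map_mul, ← h3, ← _root_.mul_assoc, mul_comm (PicCalc.ph (fst A T) _)]

variable {A At : Over (Spec (CommRingCat.of k))} [GrpObj A] [IsProper A.hom] [Smooth A.hom]
  [GeometricallyConnected A.hom] [GrpObj At] [IsCommMonObj At] [IsProper At.hom]
  {φ : ∀ T : Over (Spec (CommRingCat.of k)), PicF.Cl (PicF.XT A.hom T) → (T ⟶ At)}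
  (hdual : AbDual.IsDualAV Scheme.fppfPrecoverage A At φ)

set_option maxHeartbeats 400000 in
include hdual in
/-- The dual is at least as big as the variety. -/
theorem topologicalKrullDim_le : topologicalKrullDim A.left ≤ topologicalKrullDim At.left := by
  haveI := Groth.Agent.H2.Rigid.GeomIrred.geometricallyIntegral_of_smooth A.hom
  haveI : IsCommMonObj A := isCommMonObj_of_isProper_of_geometricallyIntegral A
  haveI : IsLocallyNoetherian A.left := LocallyOfFiniteType.isLocallyNoetherian A.hom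
  obtain ⟨L, hL⟩ := H63.AVProjective.exists_isAmple A
  have hrel : RelAmple.IsRelAmple A.hom L := (Ample.RelAmple.isRelAmple_iff_isAmple A.hom).2 hL
  have hLi := Ample.RelAmple.isInvertible_of_isRelAmple hrel
  let l := PicGrp.cls L hLi
  obtain ⟨N, hN, hNl⟩ := PicGrp.exists_eq_cls
    (PicCalc.ph μ[A] l * (PicCalc.ph (fst A A) l)⁻¹ * (PicCalc.ph (snd A A) l)⁻¹ :
      PicLoc.PicSet (A ⊗ A).left)
  have hN' : AgPol.IsLambdaSheaf (μ[A].left : PicF.XT A.hom A ⟶ A.left) (fst A A).left (snd A A).left L N :=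
    (PicCalc.iso_iff (PicCalc.cl_tensor (PicCalc.cl_tensor (b := PicCalc.ph (fst A A) l) rfl
        (PicCalc.cl_pullback (fst A A) (a := l) rfl))
        (PicCalc.cl_pullback (snd A A) (a := l) rfl))
      (PicCalc.cl_pullback μ[A] (a := l) rfl)).2 (by
        show PicGrp.cls N hN * _ * _ = _
        rw [← hNl]; simp [_root_.mul_assoc, mul_comm, mul_left_comm])
  have hc := DualSep.isPicZeroCl_lambda hLi hN hN'
  let lam : A ⟶ At := φ A (PicF.cl N)
  have hlam1 : η[A] ≫ lam = η[At] :=
    (DualSep.unit_comp_lambda hLi hN hN' hdual).trans (MonObj.one_eq_one (M := At)).symm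
  haveI : IsMonHom lam := AVHom.isMonHom_of_pointed lam hlam1
  obtain ⟨K, _, i, _, hK, -⟩ := IsogenyFactor.exists_kernel lam
  haveI : IsClosedImmersion η[At].left := GrpSch.isClosedImmersion_η At
  haveI : IsClosedImmersion i.left :=
    MorphismProperty.of_isPullback (P := @IsClosedImmersion) (hK.map (Over.forget _)).flip ‹_›
  haveI : IsProper K.hom := by rw [← Over.w i]; infer_instance
  haveI : Mono i := (Over.forget _).mono_of_mono_map (inferInstanceAs (Mono i.left))
  haveI hlqf : LocallyQuasiFinite K.hom := by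
    refine LocallyQuasiFinite.of_finite_preimage_singleton K.hom fun s => ?_
    let Ω := AlgebraicClosure ((Spec (CommRingCat.of k)).residueField s)
    let b : Spec (CommRingCat.of Ω) ⟶ Spec (CommRingCat.of k) :=
      Spec.map (CommRingCat.ofHom (algebraMap ((Spec (CommRingCat.of k)).residueField s) Ω)) ≫
        (Spec (CommRingCat.of k)).fromSpecResidueField s
    haveI : Finite {a : Over.mk b ⟶ A // ThetaGrp.IsMumfordTriv A L a} :=
      (KLFinite.finite_points A b hrel).to_subtype
    haveI : Finite (Over.mk b ⟶ K) := by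
      refine Finite.of_injective (β := {a : Over.mk b ⟶ A // ThetaGrp.IsMumfordTriv A L a})
        (fun z => ⟨z ≫ i, ?_⟩) fun z z' h => (cancel_mono i).1 (congrArg Subtype.val h)
      let a := z ≫ i
      have ha : a ≫ lam = 1 := by
        rw [Category.assoc, KernelSquare.comp_eq_one lam i hK, MonObj.comp_one]
      haveI : IsLocallyNoetherian (Over.mk b).left :=
        inferInstanceAs (IsLocallyNoetherian (Spec (CommRingCat.of Ω)))
      have hc' : AbDual.IsPicZeroCl A.hom (Over.mk b) (PicCalc.ph (A ◁ a) (PicGrp.cls N hN)).1 :=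
        isPicZeroCl_ph a _ (whiskerLeft_snd _ _) hc
      have hφ : φ (Over.mk b) (PicCalc.ph (A ◁ a) (PicGrp.cls N hN)).1 = 1 :=
        (phi_natural hdual a (a := PicGrp.cls N hN) hc).trans ha
      have h1 := PhiInj.eq_twist_of_phi_eq hdual (isPicZeroCl_one hc') hc' (map_one _)
        ((phi_one hdual (isPicZeroCl_one hc')).trans hφ.symm)
      have h2 := eq_inv_of_mul_eq_one_left h1.symm
      rw [inv_inv] at h2
      exact mumford_of_lambda hLi hN hN' a h2
    haveI := KLFinite.finite_pullback_of_points b K inferInstance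
    refine ((Set.finite_univ (α := ↥(pullback K.hom b))).image (pullback.fst K.hom b)).subset fun x hx => ?_
    obtain ⟨z, hz, -⟩ := Scheme.Pullback.exists_preimage_pullback (f := K.hom) (g := b) x
      (IsLocalRing.closedPoint Ω) (by
        rw [show K.hom x = s from hx, show b (IsLocalRing.closedPoint Ω) = s from
          (Scheme.Hom.comp_apply _ _ _).trans ((Spec (CommRingCat.of k)).fromSpecResidueField_apply s _)])
    exact ⟨z, trivial, hz⟩
  haveI : LocallyQuasiFinite (fst A K).left :=
    GrpSch.fst_left_of (P := @LocallyQuasiFinite) A hlqf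
  haveI : IsProper (lam.left ≫ At.hom) := by rw [Over.w]; infer_instance
  haveI : IsProper lam.left := IsProper.of_comp lam.left At.hom
  haveI := GrpdGen.locallyQuasiFinite_of_kernelPair (KernelSquare.isPullback_left lam i hK).flip
  exact (Flat55.FlatEquidim.topologicalKrullDim_le_of_quasiFinite lam.left).trans
    Topology.IsInducing.subtypeVal.topologicalKrullDim_le

end Groth.Agent.H4.KerDual
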