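import Groth.Agent.H4.KerDual.Props
import Groth.Agent.H4.KerDual.Dual
import Groth.Agent.H2.Rigid.GeomIrred
import Groth.Agent.H2.FlatHom.Abelian
import Mathlib.AlgebraicGeometry.Morphisms.FlatRank

/-!
# The kernel of the transpose of an isogeny is no larger than the kernel of the isogeny
-/

set_option autoImplicit false
set_option linter.style.haveILetI false
set_option linter.unusedSectionVars false

universe u

open CategoryTheory CategoryTheory.Limits MonoidalCategory CartesianMonoidalCategory MonObj AlgebraicGeometry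

noncomputable section

namespace Groth.Agent.H4.KerDual

open Groth.Agent.H3 Groth.Agent.H4.PicZero Groth.Agent.Lib Groth.Agent.Lib.H3 FunTensor

attribute [local instance] RedSplit98.Basic.alg

variable {k : Type u} [Field k]

/-- The rank of a finite scheme is that of its functions. -/
theorem finrank_hom (N : Over (Spec (CommRingCat.of k))) [IsFinite N.hom] [Flat N.hom]
    (s : Spec (CommRingCat.of k)) : N.hom.finrank s = Module.finrank k (Fn N) := by
  haveI := RedSplit98.Basic.isAffine_of_isFinite N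
  haveI := RedSplit98.Basic.module_finite N
  have e : N.hom = N.left.isoSpec.hom ≫ Spec.map (CommRingCat.ofHom (algebraMap k (Fn N))) := by
    show _ = _ ≫ Spec.map ((Scheme.ΓSpecIso (CommRingCat.of k)).inv ≫ N.hom.appTop)
    rw [Spec.map_comp, ← Category.assoc, Scheme.isoSpec_hom_naturality, Category.assoc]
    simp [Scheme.isoSpec_Spec_hom, ← Spec.map_comp]
  have hfin : (CommRingCat.ofHom (algebraMap k (Fn N))).hom.Finite := by
    rw [CommRingCat.hom_ofHom, RingHom.finite_algebraMap]; infer_instance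
  haveI : IsFinite (Spec.map (CommRingCat.ofHom (algebraMap k (Fn N)))) := (IsFinite.SpecMap_iff _).2 hfin
  haveI : Flat (Spec.map (CommRingCat.ofHom (algebraMap k (Fn N)))) := by
    rw [Flat.SpecMap_iff]; exact RingHom.flat_algebraMap_iff.2 inferInstance
  simp only [e]
  rw [Scheme.Hom.finrank_comp_left_of_isIso]
  exact (Scheme.Hom.finrank_SpecMap_algebraMap k (Fn N) s).trans
    (by rw [Module.rankAtStalk_eq_finrank_of_free]; rfl)

/-- The rank of an isogeny at the origin is the rank of its kernel. -/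
theorem finrank_eq_kernel {X Y N : Over (Spec (CommRingCat.of k))} [GrpObj Y] (f : X ⟶ Y)
    [IsFinite f.left] [Flat f.left] (i : N ⟶ X) (hN : AlgGrp.IsKernel i f)
    (s : Spec (CommRingCat.of k)) : f.left.finrank (η[Y].left s) = Module.finrank k (Fn N) := by
  have h : IsPullback i.left N.hom f.left η[Y].left := hN.map (Over.forget _)
  haveI : IsFinite N.hom := MorphismProperty.of_isPullback (P := @IsFinite) h ‹_›
  haveI : Flat N.hom := MorphismProperty.of_isPullback (P := @Flat) h ‹_›
  rw [← finrank_hom N s]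
  exact (Scheme.Hom.finrank_of_isPullback i.left N.hom f.left η[Y].left h s).symm

variable {X Y Xt Yt N M : Over (Spec (CommRingCat.of k))} [GrpObj X] [GrpObj Y] [GrpObj Xt] [GrpObj Yt]
  [GrpObj N] [IsProper X.hom] [Smooth X.hom] [GeometricallyConnected X.hom]
  [IsProper Y.hom] [Smooth Y.hom] [GeometricallyConnected Y.hom]
  {φX : ∀ T : Over (Spec (CommRingCat.of k)), PicF.Cl (PicF.XT X.hom T) → (T ⟶ Xt)}
  {φY : ∀ T : Over (Spec (CommRingCat.of k)), PicF.Cl (PicF.XT Y.hom T) → (T ⟶ Yt)}
  (hX : AbDual.IsDualAV Scheme.fppfPrecoverage X Xt φX)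
  (hY : AbDual.IsDualAV Scheme.fppfPrecoverage Y Yt φY)
  {f : X ⟶ Y} [IsMonHom f] [Flat f.left] [Surjective f.left]
  {i : N ⟶ X} [IsMonHom i] (hN : AlgGrp.IsKernel i f) [IsFinite N.hom]
  {ft : Yt ⟶ Xt} (hft : AbDual.IsTranspose f φX φY ft)
  {j : M ⟶ Yt} (hM : AlgGrp.IsKernel j ft) [IsFinite M.hom]

include hX hY hN hft hM in
/-- The pairing between the two kernels. -/
theorem exists_perfect_pairing :
    ∃ χ : Fn (N ⊗ M), Dual.IsMul χ ∧ Dual.IsOne χ ∧ Dual.IsSep χ := by
  haveI := Groth.Agent.H2.Rigid.GeomIrred.geometricallyIntegral_of_smooth X.hom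
  haveI := Groth.Agent.H2.Rigid.GeomIrred.geometricallyIntegral_of_smooth Y.hom
  haveI : IsProper (f.left ≫ Y.hom) := by rw [Over.w]; infer_instance
  haveI : IsProper f.left := IsProper.of_comp f.left Y.hom
  have hj : j ≫ ft = 1 := KernelSquare.comp_eq_one ft j hM
  obtain ⟨χ, hχ⟩ := exists_pairing hX hY hft (KernelSquare.comp_eq_one f i hN) j hj
  refine ⟨χ, fun W v v' g hW => IsPairing.mul hY (f := f) (i := i) hχ v v' g,
    fun W g hW => IsPairing.one hY hχ hX hft hN hj g, fun W g g' hW h => ?_⟩
  exact hM.hom_ext (IsPairing.ext hY hχ hX hft hN hj h) (toUnit_unique _ _)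

include hX hY hN hft hM in
theorem finrank_kernel_le : Module.finrank k (Fn M) ≤ Module.finrank k (Fn N) := by
  obtain ⟨χ, h1, h2, h3⟩ := exists_perfect_pairing hX hY hN hft hM
  exact Dual.finrank_le h1 h2 h3

end Groth.Agent.H4.KerDual
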