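import Groth.Agent.H4.KerDual.Rigid
import Mathlib.AlgebraicGeometry.AffineSpace
import Mathlib.AlgebraicGeometry.Sites.Fpqc

/-!
# The pairing between the kernel of an isogeny and the kernel of its transpose
-/

set_option autoImplicit false
set_option linter.style.haveILetI false
set_option linter.unusedSectionVars false

universe u

open CategoryTheory CategoryTheory.Limits MonoidalCategory CartesianMonoidalCategory MonObj AlgebraicGeometry Opposite

noncomputable section

namespace Groth.Agent.H4.KerDual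

open Groth.Agent.H3 Groth.Agent.H4.PicZero Groth.Agent.Lib Groth.Agent.Lib.H3

local instance (Y : Scheme.{u}) : PicGrp.Law Y := Groth.Agent.Lib.TensorMod.Invertible.law Y

/-- Functions are separated by jointly surjective flat families. -/
theorem fun_ext_of_flat {T : Scheme.{u}} {r r' : Γ(T, ⊤)}
    (H : ∀ x : T, ∃ (U : Scheme.{u}) (w : U ⟶ T), Flat w ∧ x ∈ Set.range w ∧
      w.appTop.hom r = w.appTop.hom r') : r = r' := by
  let e := fun Z : Scheme.{u} => AffineSpace.toSpecMvPolyIntEquiv (X := Z) PUnit.{u+1}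
  have h : (e T).symm (fun _ => r) = (e T).symm (fun _ => r') := by
    refine hom_ext_of_fppf fun x => ?_
    obtain ⟨U, w, hw, hx, he⟩ := H x
    refine ⟨U, w, hw, hx, (e U).injective (funext fun j => ?_)⟩
    rw [AffineSpace.toSpecMvPolyIntEquiv_comp, AffineSpace.toSpecMvPolyIntEquiv_comp,
      Equiv.apply_symm_apply, Equiv.apply_symm_apply]
    exact he
  exact congrFun ((e T).symm.injective h) PUnit.unit

/-- Compatible functions on an fppf family glue. -/
theorem exists_glue_fun {T : Scheme.{u}} {I : Type u} {U : I → Scheme.{u}} (p : ∀ i, U i ⟶ T)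
    [∀ i, Flat (p i)] [∀ i, LocallyOfFinitePresentation (p i)]
    (hp : ∀ x : T, ∃ i, x ∈ Set.range (p i)) (r : ∀ i, Γ(U i, ⊤))
    (hr : ∀ (i j : I) (W : Scheme.{u}) (a : W ⟶ U i) (b : W ⟶ U j), a ≫ p i = b ≫ p j →
      a.appTop.hom (r i) = b.appTop.hom (r j)) :
    ∃ χ : Γ(T, ⊤), ∀ i, (p i).appTop.hom χ = r i := by
  let e := fun Z : Scheme.{u} => AffineSpace.toSpecMvPolyIntEquiv (X := Z) PUnit.{u+1}
  have hmem : Presieve.ofArrows U p ∈ Scheme.fppfPrecoverage T := by
    rw [Scheme.fppfPrecoverage, Scheme.ofArrows_mem_precoverage_iff]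
    exact ⟨hp, fun i => ⟨inferInstance, inferInstance⟩⟩
  have hs : Presieve.IsSheafFor (yoneda.obj (Spec (CommRingCat.of (MvPolynomial PUnit.{u+1} (ULift.{u} ℤ))))) (Presieve.ofArrows U p) := by
    exact (GrothendieckTopology.Subcanonical.isSheaf_of_isRepresentable
      (J := Scheme.fppfTopology) _).isSheafFor (Presieve.ofArrows U p)
      (Precoverage.generate_mem_toGrothendieck (R := Presieve.ofArrows U p) hmem)
  rw [Presieve.isSheafFor_arrows_iff] at hs
  obtain ⟨t, ht, -⟩ := hs (fun i => (e (U i)).symm (fun _ => r i)) (fun i j W a b hab => by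
    refine (e W).injective (funext fun x => ?_)
    show e W (a ≫ (e (U i)).symm _) x = e W (b ≫ (e (U j)).symm _) x
    rw [AffineSpace.toSpecMvPolyIntEquiv_comp, AffineSpace.toSpecMvPolyIntEquiv_comp,
      Equiv.apply_symm_apply, Equiv.apply_symm_apply]
    exact hr i j W a b hab)
  refine ⟨e T t PUnit.unit, fun i => ?_⟩
  rw [← AffineSpace.toSpecMvPolyIntEquiv_comp]
  exact (congrArg (fun z => e (U i) z PUnit.unit) (ht i)).trans
    (congrFun ((e (U i)).apply_symm_apply _) _)

variable {k : Type u} [Field k] {X Y N : Over (Spec (CommRingCat.of k))}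
  [GrpObj X] [GrpObj Y] [GrpObj N] [IsProper X.hom] [GeometricallyIntegral X.hom]
  [IsProper Y.hom] [GeometricallyIntegral Y.hom] [LocallyOfFiniteType N.hom]
  {Xt Yt : Over (Spec (CommRingCat.of k))} [GrpObj Xt] [GrpObj Yt]
  {φX : ∀ T : Over (Spec (CommRingCat.of k)), PicF.Cl (PicF.XT X.hom T) → (T ⟶ Xt)}
  {φY : ∀ T : Over (Spec (CommRingCat.of k)), PicF.Cl (PicF.XT Y.hom T) → (T ⟶ Yt)}
  (hX : AbDual.IsDualAV Scheme.fppfPrecoverage X Xt φX)
  (hY : AbDual.IsDualAV Scheme.fppfPrecoverage Y Yt φY)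
  {f : X ⟶ Y} [IsMonHom f] {ft : Yt ⟶ Xt} (hft : AbDual.IsTranspose f φX φY ft)
  {i : N ⟶ X} [IsMonHom i] (hi : i ≫ f = 1)

include hi in
theorem hif {U : Over (Spec (CommRingCat.of k))} (v : U ⟶ N) (x : U ⟶ X) :
    (x * (v ≫ i)) ≫ f = x ≫ f := by
  rw [MonObj.mul_comp, Category.assoc, hi, MonObj.comp_one, _root_.mul_one]

theorem locallyOfFiniteType_tensor (A B : Over (Spec (CommRingCat.of k))) [LocallyOfFiniteType A.hom]
    [LocallyOfFiniteType B.hom] : LocallyOfFiniteType (A ⊗ B).hom := by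
  rw [← Over.w (snd A B)]
  haveI : LocallyOfFiniteType (snd A B).left :=
    GrpSch.snd_left_of (P := @LocallyOfFiniteType) B inferInstance
  infer_instance

theorem lft_of_hom {W W' : Over (Spec (CommRingCat.of k))} (w : W' ⟶ W)
    [LocallyOfFinitePresentation w.left] [LocallyOfFiniteType W.hom] :
    LocallyOfFiniteType W'.hom := by
  rw [← Over.w w]
  infer_instance

include hY in
/-- Functions agree when they agree wherever a point of the dual has a class. -/
theorem fun_ext_rep {W : Over (Spec (CommRingCat.of k))} [LocallyOfFiniteType W.hom] (y : W ⟶ Yt)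
    {r r' : Γ(W.left, ⊤)}
    (H : ∀ (U : Over (Spec (CommRingCat.of k))) (w : U ⟶ W) (b : PicLoc.PicSet (Y ⊗ U).left),
      LocallyOfFiniteType U.hom → Rep φY (w ≫ y) b → w.left.appTop.hom r = w.left.appTop.hom r') :
    r = r' := by
  refine fun_ext_of_flat fun x => ?_
  obtain ⟨U, w, hw, hw', b, hx, hb⟩ := exists_rep hY y x
  haveI := hw'
  exact ⟨U.left, w.left, hw, hx, H U w b (lft_of_hom w) hb⟩

include hX hY hft hi in
/-- The pairing: a function on `N ⊗ M` computing all characters. -/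
theorem exists_pairing {M : Over (Spec (CommRingCat.of k))} [LocallyOfFiniteType M.hom]
    (y : M ⟶ Yt) (hy : y ≫ ft = 1) :
    ∃ χ : Γ((N ⊗ M).left, ⊤), ∀ (W : Over (Spec (CommRingCat.of k))) (g : W ⟶ M) (v : W ⟶ N)
      (b : PicLoc.PicSet (Y ⊗ W).left), LocallyOfFiniteType W.hom → Rep φY (g ≫ y) b →
        CharOf f i b v ((lift v g).left.appTop.hom χ) := by
  choose U u hu hu' b hmem hb using fun x : M.left => exists_rep hY y x
  have hlU : ∀ x, LocallyOfFiniteType (U x).hom := fun x => by haveI := hu' x; exact lft_of_hom (u x)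
  have hkill : ∀ (W : Over (Spec (CommRingCat.of k))) (g : W ⟶ M) (c : PicLoc.PicSet (Y ⊗ W).left),
      LocallyOfFiniteType W.hom → Rep φY (g ≫ y) c → Killed f c := fun W g c hW hc => by
    haveI : IsLocallyNoetherian W.left := LocallyOfFiniteType.isLocallyNoetherian W.hom
    exact hc.killed hX hft (by rw [Category.assoc, hy, MonObj.comp_one])
  have hchar : ∀ x, ∃ c, CharOf f i (PicCalc.ph (Y ◁ snd N (U x)) (b x)) (fst N (U x)) c := fun x => by
    obtain ⟨c, -, hc⟩ := exists_charOf (hif hi) ((hkill _ (u x) (b x) (hlU x) (hb x)).pull (snd N (U x)))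
      (fst N (U x))
    exact ⟨c, hc⟩
  choose r hr using hchar
  haveI : ∀ x, Flat (N ◁ u x).left := fun x =>
    GrpSch.whiskerLeft_left_of N (u x) (P := @Flat) (hu x)
  haveI : ∀ x, LocallyOfFinitePresentation (N ◁ u x).left := fun x =>
    GrpSch.whiskerLeft_left_of N (u x) (P := @LocallyOfFinitePresentation) (hu' x)
  have hcov : ∀ (W : Over (Spec (CommRingCat.of k))) (g : W ⟶ M) (w : W.left),
      ∃ x, w ∈ Set.range (pullback.fst g.left (u x).left) := fun W g w => by
    obtain ⟨z, hz⟩ := hmem (g.left w)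
    obtain ⟨q, hq, -⟩ := Scheme.Pullback.exists_preimage_pullback (f := g.left)
      (g := (u (g.left w)).left) w z hz.symm
    exact ⟨g.left w, q, hq⟩
  have hp : ∀ z : (N ⊗ M).left, ∃ x, z ∈ Set.range (N ◁ u x).left := fun z => by
    obtain ⟨x, q, hq⟩ := hcov (N ⊗ M) (snd N M) z
    refine ⟨x, (GrpSch.isPullback_whiskerLeft N (u x)).isoPullback.inv q, ?_⟩
    rw [← Scheme.Hom.comp_apply, IsPullback.isoPullback_inv_fst]
    exact hq
  have hcomp : ∀ (W : Over (Spec (CommRingCat.of k))) (x x' : M.left) (a : W ⟶ N ⊗ U x)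
      (a' : W ⟶ N ⊗ U x'), a ≫ N ◁ u x = a' ≫ N ◁ u x' →
      a.left.appTop.hom (r x) = a'.left.appTop.hom (r x') := by
    intro W x x' a a' h
    have hfst : a ≫ fst _ _ = a' ≫ fst _ _ := by
      have := congrArg (fun z => z ≫ fst N M) h
      simpa using this
    have hsnd : (a ≫ snd _ _) ≫ u x = (a' ≫ snd _ _) ≫ u x' := by
      have := congrArg (fun z => z ≫ snd N M) h
      simpa using this
    let O : Over (Spec (CommRingCat.of k)) :=
      Over.mk (pullback.fst (u x).left (u x').left ≫ (U x).hom)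
    let p₁ : O ⟶ U x := Over.homMk (pullback.fst (u x).left (u x').left) rfl
    let p₂ : O ⟶ U x' := Over.homMk (pullback.snd (u x).left (u x').left) (by
      show pullback.snd _ _ ≫ (U x').hom = pullback.fst _ _ ≫ (U x).hom
      rw [← Over.w (u x), ← Over.w (u x'), pullback.condition_assoc])
    have hp12 : p₁ ≫ u x = p₂ ≫ u x' := Over.OverMorphism.ext pullback.condition
    haveI : LocallyOfFiniteType O.hom := by
      haveI := hlU x
      haveI := hu' x'
      show LocallyOfFiniteType (pullback.fst _ _ ≫ _)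
      infer_instance
    haveI : IsLocallyNoetherian O.left := LocallyOfFiniteType.isLocallyNoetherian O.hom
    let g : W ⟶ O := Over.homMk
      (pullback.lift (a ≫ snd _ _).left (a' ≫ snd _ _).left (congrArg Over.Hom.left hsnd)) (by
        show pullback.lift _ _ _ ≫ pullback.fst _ _ ≫ (U x).hom = W.hom
        rw [pullback.lift_fst_assoc]
        exact Over.w (a ≫ snd _ _))
    have hg₁ : g ≫ p₁ = a ≫ snd _ _ := Over.OverMorphism.ext (pullback.lift_fst _ _ _)
    have hg₂ : g ≫ p₂ = a' ≫ snd _ _ := Over.OverMorphism.ext (pullback.lift_snd _ _ _)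
    have hR : PicCalc.ph (Y ◁ p₁) (b x) = PicCalc.ph (Y ◁ p₂) (b x') := by
      have h2 := (hb x').pull hY p₂
      rw [← Category.assoc, ← hp12, Category.assoc] at h2
      exact ((hb x).pull hY p₁).eq hY h2
    have e1 := (hr x).natural a
    have e2 := (hr x').natural a'
    rw [← PicCalc.ph_comp, ← whiskerLeft_comp, ← hg₁, whiskerLeft_comp, PicCalc.ph_comp, hR,
      ← PicCalc.ph_comp, ← whiskerLeft_comp, hg₂, hfst] at e1
    rw [← PicCalc.ph_comp, ← whiskerLeft_comp] at e2
    exact e1.unique e2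
  obtain ⟨χ, hχ⟩ := exists_glue_fun (fun x => (N ◁ u x).left) hp r fun x x' W a a' h => by
    let V : Over (Spec (CommRingCat.of k)) := Over.mk (a ≫ (N ⊗ U x).hom)
    exact hcomp V x x' (Over.homMk a rfl) (Over.homMk a' (by
      show a' ≫ (N ⊗ U x').hom = a ≫ (N ⊗ U x).hom
      rw [← Over.w (N ◁ u x'), ← Over.w (N ◁ u x), ← Category.assoc, ← Category.assoc, h]))
      (Over.OverMorphism.ext h)
  refine ⟨χ, fun W g v c hW hc => ?_⟩
  obtain ⟨d, -, hd⟩ := exists_charOf (hif hi) (hkill W g c hW hc) v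
  convert hd using 1
  refine fun_ext_of_flat fun w => ?_
  obtain ⟨x, hx⟩ := hcov W g w
  let P : Over (Spec (CommRingCat.of k)) := Over.mk (pullback.fst g.left (u x).left ≫ W.hom)
  let p₁ : P ⟶ W := Over.homMk (pullback.fst g.left (u x).left) rfl
  let p₂ : P ⟶ U x := Over.homMk (pullback.snd g.left (u x).left) (by
    show pullback.snd _ _ ≫ (U x).hom = pullback.fst _ _ ≫ W.hom
    rw [← Over.w (u x), ← Over.w g, pullback.condition_assoc])
  haveI := hu x
  haveI := hu' x
  haveI : Flat p₁.left := inferInstanceAs (Flat (pullback.fst g.left (u x).left))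
  haveI : LocallyOfFinitePresentation p₁.left :=
    inferInstanceAs (LocallyOfFinitePresentation (pullback.fst g.left (u x).left))
  haveI : LocallyOfFiniteType P.hom := lft_of_hom p₁
  haveI : IsLocallyNoetherian P.left := LocallyOfFiniteType.isLocallyNoetherian P.hom
  have hp12 : p₁ ≫ g = p₂ ≫ u x := Over.OverMorphism.ext pullback.condition
  refine ⟨P.left, p₁.left, inferInstance, hx, ?_⟩
  have h2 := (hb x).pull hY p₂
  rw [← Category.assoc, ← hp12, Category.assoc] at h2
  have hR : PicCalc.ph (Y ◁ p₁) c = PicCalc.ph (Y ◁ p₂) (b x) := (hc.pull hY p₁).eq hY h2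
  have e1 := hd.natural p₁
  rw [hR] at e1
  have e2 := (hr x).natural (lift (p₁ ≫ v) p₂)
  rw [← PicCalc.ph_comp, ← whiskerLeft_comp, lift_snd, lift_fst] at e2
  rw [e1.unique e2, ← hχ x, ← CommRingCat.comp_apply, ← CommRingCat.comp_apply,
    ← Scheme.Hom.comp_appTop, ← Scheme.Hom.comp_appTop, ← Over.comp_left, ← Over.comp_left]
  congr 4
  apply CartesianMonoidalCategory.hom_ext <;> simp [hp12]

end Groth.Agent.H4.KerDual
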