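import Groth.Agent.H4.KerDual.GraphPol
import Groth.Agent.H4.AbSchMul
import Groth.Agent.H4.IsogenyFactor
import Groth.Agent.H4.KernelSquare
import Groth.Agent.H4.DualSep.Lambda
import Groth.Agent.H4.PicZero.RelCube
import Groth.Agent.H2.Rigid.GeomIrred
import Groth.Agent.Lib.GrpSch.FiniteRestr
import Groth.Agent.Lib.H3.SeesawRep
import Groth.Agent.Lib.TensorMod.LocFree

/-!
# The locus where a line bundle is the graph pullback of the Poincaré class
-/

set_option autoImplicit false
set_option linter.style.haveILetI false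
set_option linter.unusedSectionVars false

universe u

open CategoryTheory CategoryTheory.Limits MonoidalCategory CartesianMonoidalCategory MonObj AlgebraicGeometry

noncomputable section

namespace Groth.Agent.H4.KerDual

open Groth.Agent.H3 Groth.Agent.H4.PicZero Groth.Agent.Lib Groth.Agent.Lib.H3

local instance polLocusLaw (Y : Scheme.{u}) : PicGrp.Law Y := Groth.Agent.Lib.TensorMod.Invertible.law Y

variable {S : Scheme.{u}}

section Dn

variable {S' : Scheme.{u}} (t : S' ⟶ S) {A B : Over S}

/-- A point of the base change as a point over the base. -/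
def dn {U : Over S'} (a : U ⟶ Red.bc t A) : res t U ⟶ A :=
  Over.homMk (a.left ≫ pullback.fst A.hom t) (by
    show (a.left ≫ pullback.fst A.hom t) ≫ A.hom = U.hom ≫ t
    rw [Category.assoc, pullback.condition, ← Category.assoc]
    exact congrArg (· ≫ t) (Over.w a))

/-- A morphism over `S'` as a morphism over `S`. -/
def resMap {U V : Over S'} (g : U ⟶ V) : res t U ⟶ res t V :=
  Over.homMk g.left (by
    show g.left ≫ V.hom ≫ t = U.hom ≫ t
    rw [← Category.assoc, Over.w g])

theorem bcPt_dn {U : Over S'} (a : U ⟶ Red.bc t A) : bcPt t (dn t a) = a :=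
  bcPt_ext t (bcPt_fst t _)

theorem dn_bcPt {U : Over S'} (y : res t U ⟶ A) : dn t (bcPt t y) = y :=
  Over.OverMorphism.ext (bcPt_fst t y)

theorem dn_injective {U : Over S'} : Function.Injective (dn t : (U ⟶ Red.bc t A) → (res t U ⟶ A)) :=
  fun a b h => by rw [← bcPt_dn t a, ← bcPt_dn t b, h]

theorem dn_comp {U V : Over S'} (g : U ⟶ V) (a : V ⟶ Red.bc t A) : dn t (g ≫ a) = resMap t g ≫ dn t a :=
  Over.OverMorphism.ext (Category.assoc _ _ _)

theorem dn_map {U : Over S'} (a : U ⟶ Red.bc t A) (f : A ⟶ B) :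
    dn t (a ≫ (Over.pullback t).map f) = dn t a ≫ f := by
  apply Over.OverMorphism.ext
  show (a.left ≫ ((Over.pullback t).map f).left) ≫ pullback.fst B.hom t = (a.left ≫ pullback.fst A.hom t) ≫ f.left
  rw [Category.assoc, show ((Over.pullback t).map f).left ≫ pullback.fst B.hom t = pullback.fst A.hom t ≫ f.left
    from pullback.lift_fst _ _ _, Category.assoc]

variable [GrpObj A]

theorem dn_mul {U : Over S'} (a b : U ⟶ Red.bc t A) : dn t (a * b) = dn t a * dn t b := by
  rw [← dn_bcPt t (dn t a * dn t b), bcPt_mul, bcPt_dn, bcPt_dn]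

theorem dn_one {U : Over S'} : dn t (1 : U ⟶ Red.bc t A) = 1 := by
  rw [← bcPt_one t U, dn_bcPt]

theorem dn_pow {U : Over S'} (a : U ⟶ Red.bc t A) (n : ℕ) : dn t (a ^ n) = dn t a ^ n := by
  induction n with
  | zero => rw [pow_zero, pow_zero, dn_one]
  | succ n ih => rw [pow_succ, pow_succ, dn_mul, ih]

end Dn

/-- A homomorphism trivial on the kernel of an isogeny factors through it. -/
theorem exists_factor {A B : Over S} [GrpObj A] [GrpObj B] [IsCommMonObj B] [IsProper A.hom] [Smooth A.hom]
    [GeometricallyConnected A.hom] [IsSeparated B.hom] (p : A ⟶ A) [IsMonHom p] [Flat p.left] [Surjective p.left]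
    [LocallyOfFinitePresentation p.left] (h : A ⟶ B) [IsMonHom h]
    (hk : ∀ (U : Over S) (z : U ⟶ A), z ≫ p = 1 → z ≫ h = 1) :
    ∃ l : A ⟶ B, IsMonHom l ∧ p ≫ l = h := by
  have hcomp : ∀ (U : Over S) (a b : U ⟶ A), a ≫ p = b ≫ p → a ≫ h = b ≫ h := fun U a b e => by
    have h1 := hk U (a * b⁻¹) (by rw [MonObj.mul_comp, GrpObj.inv_comp, e, mul_inv_cancel])
    rwa [MonObj.mul_comp, GrpObj.inv_comp, mul_inv_eq_one] at h1
  obtain ⟨l, hl⟩ := exists_glue_hom (fun _ : PUnit.{u + 1} => p.left)
    (fun y => ⟨⟨⟩, by obtain ⟨z, hz⟩ := p.left.surjective y; exact ⟨z, hz⟩⟩) (fun _ => h.left)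
    fun _ _ W a b e => by
      let U : Over S := Over.mk (a ≫ A.hom)
      let za : U ⟶ A := Over.homMk a rfl
      let zb : U ⟶ A := Over.homMk b (by
        show b ≫ A.hom = a ≫ A.hom
        rw [← Over.w p, ← Category.assoc, ← e, Category.assoc])
      exact congrArg Over.Hom.left (hcomp U za zb (Over.OverMorphism.ext e))
  have hl' : l ≫ B.hom = A.hom := by
    refine hom_ext_of_fppf fun y => ?_
    obtain ⟨z, hz⟩ := p.left.surjective y
    refine ⟨_, p.left, inferInstance, ⟨z, hz⟩, ?_⟩
    rw [← Category.assoc, hl PUnit.unit, Over.w h, Over.w p]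
  let lo : A ⟶ B := Over.homMk l hl'
  have hlo : p ≫ lo = h := Over.OverMorphism.ext (hl PUnit.unit)
  refine ⟨lo, ?_, hlo⟩
  haveI := H2.Rigid.geometricallyReduced_of_smooth A.hom
  refine H2.Rigid.isMonHom_of_pointed (H2.Rigid.H0.of_geometrically A.hom) lo ?_
  have e1 : η[A] ≫ p = η[A] := IsMonHom.one_hom p
  have e2 : η[A] ≫ h = η[B] := IsMonHom.one_hom h
  rw [← e1, Category.assoc, hlo, e2]

/-- A morphism is determined by its composite with a faithfully flat one. -/
theorem eq_of_comp_eq {A B : Over S} (p : A ⟶ A) [Flat p.left] [Surjective p.left] {a b : A ⟶ B}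
    (h : p ≫ a = p ≫ b) : a = b := by
  apply Over.OverMorphism.ext
  refine hom_ext_of_fppf fun y => ?_
  obtain ⟨z, hz⟩ := p.left.surjective y
  exact ⟨_, p.left, inferInstance, ⟨z, hz⟩, congrArg Over.Hom.left h⟩

variable {A At : Over S} [GrpObj A] [IsProper A.hom] [Smooth A.hom] [GeometricallyConnected A.hom]
  [GrpObj At] [IsCommMonObj At] {φ : AgPol.DualMap A At}
  (hdual : AbDual.IsDualAV Scheme.fppfPrecoverage A At φ)
  {L : A.left.Modules} (hL : PicF.IsInvertible L)
  {N : (PicF.XT A.hom A).Modules} (hN : PicF.IsInvertible N)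
  (hN' : AgPol.IsLambdaSheaf (μ[A].left : PicF.XT A.hom A ⟶ A.left) (fst A A).left (snd A A).left L N)

include hdual hL hN hN' in
/-- Over a base change, a power of a homomorphism is attached to the module iff it is the base change of
the attached homomorphism. -/
theorem isLambda_bc_iff (T : Over S) (mu : Red.bc T.hom A ⟶ Red.bc T.hom At) :
    AgPol.IsLambda (Red.bc T.hom A) (Red.bc T.hom At) (AgPol.bcDual T.hom A At φ)
        ((Scheme.Modules.pullback (pullback.fst A.hom T.hom)).obj L) mu ↔
      mu = (Over.pullback T.hom).map (φ A (PicF.cl N)) := by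
  let t := T.hom
  let A' := Red.bc t A
  let W : Over S := res t (A' ⊗ A')
  let P₁ : W ⟶ A := dn t (fst A' A')
  let P₂ : W ⟶ A := dn t (snd A' A')
  let π : res t A' ⟶ A := dn t (𝟙 A')
  have hπ : π.left = pullback.fst A.hom t := Category.id_comp _
  have hm : (lift P₁ P₂).left = bcProd t A A := by
    rw [bcProd]
    apply pullback.hom_ext
    · refine (congrArg Over.Hom.left (lift_fst P₁ P₂)).trans ?_
      rw [Category.assoc, PicF.XTmap, pullback.lift_fst, Category.comp_id]
      exact (pullbackLeftPullbackSndIso_hom_fst _ _ _).symm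
    · refine (congrArg Over.Hom.left (lift_snd P₁ P₂)).trans ?_
      rw [Category.assoc, PicF.XTmap, pullback.lift_snd]
      exact (pullbackLeftPullbackSndIso_hom_snd_assoc _ _ _ _).symm
  let n : PicLoc.PicSet (A ⊗ A).left := PicGrp.cls N hN
  let nT : PicLoc.PicSet (A' ⊗ A').left := PicCalc.ph (lift P₁ P₂) n
  have hn0 : AbDual.IsPicZeroCl A.hom A n.1 := DualSep.isPicZeroCl_lambda hL hN hN'
  have hnT : nT.1 = PicF.pullCl (AgPol.bcXTIso t A A').hom (PicF.pullCl (PicF.XTmap A.hom (bcFst t A)) n.1) := by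
    show PicF.pullCl (lift P₁ P₂).left n.1 = _
    rw [hm, bcProd, PicLoc.pullCl_comp]
  have hφ : AgPol.bcDual t A At φ A' nT.1 = (Over.pullback t).map (φ A (PicF.cl N)) := by
    refine bcPt_ext t ?_
    rw [bcDual_eq, bcPt_fst, hnT, ← PicLoc.pullCl_comp (AgPol.bcXTIso t A A').inv, Iso.inv_hom_id,
      PicLoc.pullCl_id, hdual.relPic.natural _ _ _ _ hn0]
    exact (pullback.lift_fst _ _ _).symm
  let lT : PicLoc.PicSet A'.left := PicCalc.ph π (PicGrp.cls L hL)
  have hlT : PicF.cl ((Scheme.Modules.pullback (pullback.fst A.hom t)).obj L) = lT.1 := by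
    rw [PicCalc.ph_val, hπ, PicGrp.cls_val, PicLoc.pullCl_cl]
  have hcl : ∀ a : (A' ⊗ A') ⟶ A',
      PicCalc.ph a lT = (PicCalc.ph (dn t a) (PicGrp.cls L hL) : PicLoc.PicSet W.left) := fun a => by
    have e : resMap t a ≫ π = dn t a := by
      rw [← dn_comp, Category.comp_id]
    rw [← e, PicCalc.ph_comp]
    rfl
  have hrel : nT * PicCalc.ph (fst A' A') lT * PicCalc.ph (snd A' A') lT = PicCalc.ph μ[A'] lT := by
    rw [hcl, hcl, hcl, MonObj.mul_eq_mul, dn_mul]
    exact DualSep.lambda_rel hL hN hN' P₁ P₂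
  constructor
  · rintro ⟨N', hN₁, hN₁', rfl⟩
    have h : (PicGrp.cls N' hN₁ : PicLoc.PicSet (A' ⊗ A').left) * PicCalc.ph (fst A' A') lT *
        PicCalc.ph (snd A' A') lT = PicCalc.ph μ[A'] lT :=
      (PicCalc.iso_iff (PicCalc.cl_tensor (PicCalc.cl_tensor rfl (PicCalc.cl_pullback (fst A' A') hlT))
        (PicCalc.cl_pullback (snd A' A') hlT)) (PicCalc.cl_pullback μ[A'] hlT)).1 hN₁'
    rw [← hrel] at h
    rw [← hφ, ← mul_right_cancel (mul_right_cancel h)]
    rfl
  · rintro rfl
    obtain ⟨N', hN₁, hN₁e⟩ := PicGrp.exists_eq_cls nT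
    refine ⟨N', hN₁, (PicCalc.iso_iff (PicCalc.cl_tensor (PicCalc.cl_tensor (a := nT) (by rw [hN₁e]; rfl)
      (PicCalc.cl_pullback (fst A' A') hlT)) (PicCalc.cl_pullback (snd A' A') hlT))
      (PicCalc.cl_pullback μ[A'] hlT)).2 hrel, ?_⟩
    rw [show PicF.cl N' = nT.1 by rw [hN₁e]; rfl]
    exact hφ

/-- The comparison class on a base change. -/
def graphDiff (l : PicLoc.PicSet A.left) (x : PicLoc.PicSet (A ⊗ At).left) (k : ℕ) {T : Over S}
    (m : res T.hom (Red.bc T.hom A) ⟶ At) : PicLoc.PicSet (res T.hom (Red.bc T.hom A)).left :=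
  PicCalc.ph (bcFst T.hom A) l * (PicCalc.ph (lift (bcFst T.hom A) (m ^ k)) x)⁻¹

theorem cl_eq_graph_iff {x : PicLoc.PicSet (A ⊗ At).left} (k : ℕ) (T : Over S)
    (lam : Red.bc T.hom A ⟶ Red.bc T.hom At) :
    PicF.cl ((Scheme.Modules.pullback (pullback.fst A.hom T.hom)).obj L) =
        PicF.pullCl (pullback.lift (𝟙 (Red.bc T.hom A).left) (lam ^ k).left
          ((Category.id_comp (Red.bc T.hom A).hom).trans (Over.w (lam ^ k)).symm))
        (PicF.pullCl ((AgPol.bcXTIso T.hom A (Red.bc T.hom At)).hom ≫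
          PicF.XTmap A.hom (Over.homMk (pullback.fst At.hom T.hom) pullback.condition)) x.1) ↔
      graphDiff (PicGrp.cls L hL) x k (dn T.hom lam) = 1 := by
  let π := bcFst T.hom A
  have e : pullback.lift (𝟙 (Red.bc T.hom A).left) (lam ^ k).left
        ((Category.id_comp (Red.bc T.hom A).hom).trans (Over.w (lam ^ k)).symm) ≫
      ((AgPol.bcXTIso T.hom A (Red.bc T.hom At)).hom ≫
        PicF.XTmap A.hom (Over.homMk (pullback.fst At.hom T.hom) pullback.condition)) =
      (lift π (dn T.hom (lam ^ k))).left := by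
    apply pullback.hom_ext
    · refine Eq.trans ?_ (congrArg Over.Hom.left (lift_fst π (dn T.hom (lam ^ k)))).symm
      rw [Category.assoc, Category.assoc, PicF.XTmap, pullback.lift_fst, Category.comp_id, AgPol.bcXTIso]
      erw [pullbackLeftPullbackSndIso_hom_fst]
      erw [pullback.lift_fst_assoc]
      rw [Category.id_comp]
      rfl
    · refine Eq.trans ?_ (congrArg Over.Hom.left (lift_snd π (dn T.hom (lam ^ k)))).symm
      rw [Category.assoc, Category.assoc, PicF.XTmap, pullback.lift_snd, AgPol.bcXTIso]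
      erw [pullbackLeftPullbackSndIso_hom_snd_assoc]
      erw [pullback.lift_snd_assoc]
      rfl
  rw [← PicLoc.pullCl_comp, e, dn_pow, graphDiff, mul_inv_eq_one]
  constructor
  · intro h
    apply Subtype.ext
    rw [PicCalc.ph_val, PicCalc.ph_val]
    refine Eq.trans ?_ h
    exact PicLoc.pullCl_cl _ L
  · intro h
    have h' := congrArg Subtype.val h
    rw [PicCalc.ph_val, PicCalc.ph_val] at h'
    refine Eq.trans ?_ h'
    exact (PicLoc.pullCl_cl _ L).symm

include hdual in
theorem exists_locus [IsCommMonObj A] [IsLocallyNoetherian S] {x : PicLoc.PicSet (A ⊗ At).left}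
    (hxr : PhiInj.rig x = 1) (hL : PicF.IsInvertible L) (hrig : PicCalc.ph η[A] (PicGrp.cls L hL) = 1)
    (k : ℕ) (hk : 1 ≤ k) :
    ∃ (S₀ : Scheme.{u}) (i₀ : S₀ ⟶ S), IsClosedImmersion i₀ ∧
      ∀ T : Over S, IsLocallyNoetherian T.left →
        ((∃ h : T.left ⟶ S₀, h ≫ i₀ = T.hom) ↔
          ∃ lam : Red.bc T.hom A ⟶ Red.bc T.hom At, IsMonHom lam ∧
            AgPol.IsLambda (Red.bc T.hom A) (Red.bc T.hom At) (AgPol.bcDual T.hom A At φ)
              ((Scheme.Modules.pullback (pullback.fst A.hom T.hom)).obj L) (lam ^ (2 * k)) ∧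
            graphDiff (PicGrp.cls L hL) x k (dn T.hom lam) = 1) := by
  haveI := H2.Rigid.geometricallyReduced_of_smooth A.hom
  haveI : GeometricallyIntegral A.hom := H2.Rigid.GeomIrred.geometricallyIntegral_of_smooth A.hom
  haveI : IsSeparated At.hom := DualSep.isSeparated A.hom At φ hdual.relPic
  obtain ⟨N, hN, hNe⟩ := PicGrp.exists_eq_cls
    (PicCalc.ph μ[A] (PicGrp.cls L hL) * (PicCalc.ph (fst A A) (PicGrp.cls L hL))⁻¹ *
      (PicCalc.ph (snd A A) (PicGrp.cls L hL))⁻¹)
  have hN' : AgPol.IsLambdaSheaf (μ[A].left : PicF.XT A.hom A ⟶ A.left) (fst A A).left (snd A A).left L N :=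
    (PicCalc.iso_iff (PicCalc.cl_tensor (PicCalc.cl_tensor (a := PicGrp.cls N hN) rfl
        (PicCalc.cl_pullback (fst A A) (a := PicGrp.cls L hL) rfl))
        (PicCalc.cl_pullback (snd A A) (a := PicGrp.cls L hL) rfl))
      (PicCalc.cl_pullback μ[A] (a := PicGrp.cls L hL) rfl)).2 (by
        rw [← hNe]; simp [_root_.mul_assoc, mul_comm, mul_left_comm])
  let Φ : A ⟶ At := φ A (PicF.cl N)
  haveI hΦ : IsMonHom Φ := H2.Rigid.isMonHom_of_pointed (H2.Rigid.H0.of_geometrically A.hom) Φ
    ((DualSep.unit_comp_lambda hL hN hN' hdual).trans (MonObj.one_eq_one (M := At)).symm)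
  let p : A ⟶ A := (𝟙 A : A ⟶ A) ^ (2 * k)
  haveI : IsMonHom p := NPowEtale.isMonHom_pow_id A (2 * k)
  obtain ⟨pfin, pflat, psurj⟩ := H4.AbSchMul.zpow A (d := ((2 * k : ℕ) : ℤ)) (by omega)
  rw [zpow_natCast] at pfin pflat psurj
  haveI : IsLocallyNoetherian A.left := LocallyOfFiniteType.isLocallyNoetherian A.hom
  haveI : LocallyOfFinitePresentation p.left :=
    LocallyOfFinitePresentation.iff_locallyOfFiniteType.2 inferInstance
  obtain ⟨K, _, i, _, hK, -⟩ := IsogenyFactor.exists_kernel p
  haveI : IsFinite K.hom := KernelSquare.hom_of p i hK (P := @IsFinite) pfin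
  haveI : Flat K.hom := KernelSquare.hom_of p i hK (P := @Flat) pflat
  haveI : LocallyOfFinitePresentation K.hom :=
    KernelSquare.hom_of p i hK (P := @LocallyOfFinitePresentation) inferInstance
  haveI : IsClosedImmersion η[At].left := GrpSch.isClosedImmersion_η At
  let e₁ := pullback.fst (i ≫ Φ).left η[At].left
  haveI : IsClosedImmersion e₁ := inferInstanceAs (IsClosedImmersion (pullback.fst _ _))
  obtain ⟨S₁, j, hj, -, hS₁⟩ := GrpSch.FiniteRestr.exists_closed_restr K.hom e₁
  haveI := hj
  haveI : IsLocallyNoetherian S₁ := LocallyOfFiniteType.isLocallyNoetherian j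
  -- factorisation through the first locus
  have hfac : ∀ T : Over S, (∃ h, h ≫ j = T.hom) ↔ ∀ (U : Over T.left) (z : U ⟶ Red.bc T.hom A),
      z ≫ (Over.pullback T.hom).map p = 1 → z ≫ (Over.pullback T.hom).map Φ = 1 := by
    intro T
    rw [hS₁]
    constructor
    · intro h U z hz
      apply dn_injective T.hom
      rw [dn_map, dn_one]
      have hz' : dn T.hom z ≫ p = 1 := by rw [← dn_map, hz, dn_one]
      let y : res T.hom U ⟶ K := hK.lift (dn T.hom z) (toUnit _) (by rw [hz', Hom.one_def])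
      have hy : y ≫ i = dn T.hom z := hK.lift_fst _ _ _
      obtain ⟨w, hw⟩ := h U.left y.left U.hom (by rw [Over.w y]; rfl)
      rw [← hy, Category.assoc]
      have hsnd : w ≫ pullback.snd (i ≫ Φ).left η[At].left = (toUnit (res T.hom U)).left := by
        have h1 : w ≫ pullback.snd (i ≫ Φ).left η[At].left ≫ η[At].left = y.left ≫ (i ≫ Φ).left := by
          rw [← pullback.condition, ← Category.assoc, hw]
        have h2 := congrArg (· ≫ At.hom) h1
        simp only [Category.assoc] at h2
        rw [Over.w (i ≫ Φ), Over.w y] at h2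
        erw [Over.w η[At], Category.comp_id] at h2
        refine h2.trans ?_
        exact (Over.w (toUnit (res T.hom U))).symm.trans (Category.comp_id _)
      apply Over.OverMorphism.ext
      show y.left ≫ (i ≫ Φ).left = (1 : res T.hom U ⟶ At).left
      rw [Hom.one_def, Over.comp_left _ _ _ (toUnit (res T.hom U)) η[At], ← hw, Category.assoc, pullback.condition,
        ← Category.assoc]
      exact congrArg (· ≫ η[At].left) hsnd
    · intro h W pW q hpq
      let U : Over T.left := Over.mk q
      let y : res T.hom U ⟶ K := Over.homMk pW hpq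
      let z : U ⟶ Red.bc T.hom A := bcPt T.hom (y ≫ i)
      have hz : z ≫ (Over.pullback T.hom).map p = 1 := by
        apply dn_injective T.hom
        rw [dn_map, dn_bcPt, dn_one, Category.assoc, KernelSquare.comp_eq_one p i hK, MonObj.comp_one]
      have h2 := congrArg (dn T.hom) (h U z hz)
      rw [dn_map, dn_bcPt, dn_one, Category.assoc, Hom.one_def] at h2
      exact ⟨pullback.lift pW (toUnit (res T.hom U)).left (congrArg Over.Hom.left h2), pullback.lift_fst _ _ _⟩
  -- the data over a base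
  have hbase : ∀ T : Over S, IsProper (Red.bc T.hom A).hom ∧ Smooth (Red.bc T.hom A).hom ∧
      GeometricallyConnected (Red.bc T.hom A).hom ∧ IsSeparated (Red.bc T.hom At).hom ∧
      Flat ((Over.pullback T.hom).map p).left ∧ Surjective ((Over.pullback T.hom).map p).left ∧
      LocallyOfFinitePresentation ((Over.pullback T.hom).map p).left := fun T =>
    ⟨inferInstanceAs (IsProper (pullback.snd A.hom T.hom)), inferInstanceAs (Smooth (pullback.snd A.hom T.hom)),
      inferInstanceAs (GeometricallyConnected (pullback.snd A.hom T.hom)),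
      inferInstanceAs (IsSeparated (pullback.snd At.hom T.hom)),
      GrpSch.bc_map_left_of (P := @Flat) _ p pflat,
      GrpSch.bc_map_left_of (P := @Surjective) _ p psurj,
      GrpSch.bc_map_left_of (P := @LocallyOfFinitePresentation) _ p inferInstance⟩
  have hpow : ∀ (T : Over S) (l : Red.bc T.hom A ⟶ Red.bc T.hom At), IsMonHom l →
      (Over.pullback T.hom).map p ≫ l = l ^ (2 * k) := by
    intro T l hl
    haveI := hl
    have e : (Over.pullback T.hom).map p = (𝟙 (Red.bc T.hom A)) ^ (2 * k) := by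
      show Functor.homMonoidHom (Over.pullback T.hom) ((𝟙 A : A ⟶ A) ^ (2 * k)) = _
      rw [map_pow]
      simp [Functor.homMonoidHom]
    rw [e, MonObj.pow_comp, Category.id_comp]
  have hdesc : ∀ T : Over S, (∃ h, h ≫ j = T.hom) →
      ∃ l : Red.bc T.hom A ⟶ Red.bc T.hom At, IsMonHom l ∧ (Over.pullback T.hom).map p ≫ l =
        (Over.pullback T.hom).map Φ := by
    intro T hT
    obtain ⟨i1, i2, i3, i4, i5, i6, i7⟩ := hbase T
    exact exists_factor ((Over.pullback T.hom).map p) ((Over.pullback T.hom).map Φ) ((hfac T).1 hT)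
  obtain ⟨lam₁, hlam₁, hlam₁p⟩ := hdesc (Over.mk j) ⟨𝟙 _, Category.id_comp _⟩
  have hlam₁p' : (Over.pullback j).map p ≫ lam₁ = (Over.pullback j).map Φ := hlam₁p
  let d := graphDiff (PicGrp.cls L hL) x k (dn (Over.mk j).hom lam₁)
  obtain ⟨D, hD, hDe⟩ := PicGrp.exists_eq_cls d
  haveI : GeometricallyIntegral A.hom := H2.Rigid.GeomIrred.geometricallyIntegral_of_smooth A.hom
  let f₁ : pullback A.hom j ⟶ S₁ := pullback.snd A.hom j
  obtain ⟨S₀, j₀, hj₀, hS₀⟩ := SeesawRep.exists_rep f₁ D (TensorMod.LocFree.of_isInvertible hD)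
  haveI := hj₀
  refine ⟨S₀, j₀ ≫ j, inferInstance, fun T _ => ?_⟩
  obtain ⟨i1, i2, i3, i4, i5, i6, i7⟩ := hbase T
  let t := T.hom
  -- the comparison map for `g : T ⟶ S₁`
  have hcomp : ∀ (g : T.left ⟶ S₁) (hg : g ≫ j = t) (lam : Red.bc t A ⟶ Red.bc t At), IsMonHom lam →
      (Over.pullback t).map p ≫ lam = (Over.pullback t).map Φ →
      ((∃ u' : T.left ⟶ S₀, u' ≫ j₀ = g) ↔ graphDiff (PicGrp.cls L hL) x k (dn t lam) = 1) := by
    intro g hg lam hlam hlamp
    haveI := hlam
    let q₀ : (Red.bc t A).left ⟶ (Red.bc j A).left :=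
      pullback.lift (pullback.fst A.hom t) (pullback.snd A.hom t ≫ g) (by
        rw [Category.assoc, hg]; exact pullback.condition)
    let q : res t (Red.bc t A) ⟶ res j (Red.bc j A) := Over.homMk q₀ (by
      show q₀ ≫ pullback.snd A.hom j ≫ j = pullback.snd A.hom t ≫ t
      rw [pullback.lift_snd_assoc, Category.assoc, hg])
    have hq : q ≫ bcFst j A = bcFst t A := Over.OverMorphism.ext (pullback.lift_fst _ _ _)
    have hnat : q ≫ dn (Over.mk j).hom lam₁ = dn t lam := by
      have e1 : resMap t ((Over.pullback t).map p) ≫ q = q ≫ resMap j ((Over.pullback j).map p) := by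
        apply Over.OverMorphism.ext
        apply pullback.hom_ext
        · show (((Over.pullback t).map p).left ≫ q₀) ≫ pullback.fst A.hom j =
            (q₀ ≫ ((Over.pullback j).map p).left) ≫ pullback.fst A.hom j
          rw [Category.assoc, pullback.lift_fst, Category.assoc,
            show ((Over.pullback j).map p).left ≫ pullback.fst A.hom j = pullback.fst A.hom j ≫ p.left from
              pullback.lift_fst _ _ _, pullback.lift_fst_assoc]
          exact pullback.lift_fst _ _ _
        · show (((Over.pullback t).map p).left ≫ q₀) ≫ pullback.snd A.hom j =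
            (q₀ ≫ ((Over.pullback j).map p).left) ≫ pullback.snd A.hom j
          rw [Category.assoc, pullback.lift_snd, Category.assoc,
            show ((Over.pullback j).map p).left ≫ pullback.snd A.hom j = pullback.snd A.hom j from
              pullback.lift_snd _ _ _, pullback.lift_snd, ← Category.assoc]
          exact congrArg (· ≫ g) (pullback.lift_snd _ _ _)
      have e2 : q ≫ dn j ((Over.pullback j).map Φ) = dn t ((Over.pullback t).map Φ) := by
        apply Over.OverMorphism.ext
        show q₀ ≫ ((Over.pullback j).map Φ).left ≫ pullback.fst At.hom j = _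
        rw [show ((Over.pullback j).map Φ).left ≫ pullback.fst At.hom j = pullback.fst A.hom j ≫ Φ.left from
          pullback.lift_fst _ _ _, pullback.lift_fst_assoc]
        exact (pullback.lift_fst _ _ _).symm
      apply Over.OverMorphism.ext
      refine hom_ext_of_fppf fun y => ?_
      obtain ⟨z, hz⟩ := ((Over.pullback t).map p).left.surjective y
      refine ⟨_, ((Over.pullback t).map p).left, i5, ⟨z, hz⟩, ?_⟩
      have h := congrArg Over.Hom.left (show resMap t ((Over.pullback t).map p) ≫ q ≫ dn j lam₁ =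
          resMap t ((Over.pullback t).map p) ≫ dn t lam by
        rw [← Category.assoc, e1, Category.assoc, ← dn_comp, ← dn_comp, hlam₁p', hlamp]
        exact e2)
      exact h
    have hd : PicCalc.ph q d = graphDiff (PicGrp.cls L hL) x k (dn t lam) := by
      show PicCalc.ph q (PicCalc.ph (bcFst j A) (PicGrp.cls L hL) * _) = _
      rw [map_mul, map_inv, ← PicCalc.ph_comp, ← PicCalc.ph_comp, hq, comp_lift, MonObj.comp_pow]
      unfold graphDiff
      congr 4
      rw [hnat]
      exact congrArg (fun z => lift z _) hq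
    rw [hS₀ T.left g]
    let P := pullback f₁ g
    let r : P ⟶ (Red.bc t A).left := pullback.lift (pullback.fst f₁ g ≫ pullback.fst A.hom j) (pullback.snd f₁ g) (by
      rw [Category.assoc, pullback.condition, reassoc_of% (pullback.condition (f := f₁) (g := g)), hg])
    let ri : (Red.bc t A).left ⟶ P := pullback.lift q₀ (pullback.snd A.hom t) (pullback.lift_snd _ _ _)
    have hri : ri ≫ pullback.fst f₁ g = q₀ := pullback.lift_fst _ _ _
    have hrf : r ≫ q₀ = pullback.fst f₁ g := by
      apply pullback.hom_ext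
      · rw [Category.assoc, pullback.lift_fst, pullback.lift_fst]
      · rw [Category.assoc, pullback.lift_snd, ← Category.assoc, pullback.lift_snd]
        exact pullback.condition.symm
    constructor
    · rintro ⟨M, hM, ⟨e⟩⟩
      let m := PicGrp.cls M (TensorMod.LocFree.isInvertible_of_rank_one hM)
      let sndT : res t (Red.bc t A) ⟶ T := Over.homMk (pullback.snd A.hom t) rfl
      have h1 : PicCalc.ph q d = PicCalc.ph sndT m := by
        rw [hDe]
        refine Subtype.ext ?_
        rw [PicCalc.ph_val, PicCalc.ph_val, PicGrp.cls_val, PicGrp.cls_val]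
        show PicF.pullCl q₀ (PicF.cl D) = PicF.pullCl (pullback.snd A.hom t) (PicF.cl M)
        have h := (PicGrp.cl_eq_cl_iff _ _).2 ⟨e⟩
        rw [← PicLoc.pullCl_cl, ← PicLoc.pullCl_cl] at h
        have h' := congrArg (PicF.pullCl ri) h
        rw [← PicLoc.pullCl_comp, ← PicLoc.pullCl_comp, hri, pullback.lift_snd] at h'
        exact h'
      rw [hd] at h1
      rw [h1]
      let σ : T ⟶ res t (Red.bc t A) := Over.homMk η[Red.bc t A].left (by
        show η[Red.bc t A].left ≫ (Red.bc t A).hom ≫ t = T.hom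
        rw [← Category.assoc, Over.w η[Red.bc t A]]
        exact Category.id_comp _)
      have hσ : σ ≫ sndT = 𝟙 T := Over.OverMorphism.ext (Over.w η[Red.bc t A])
      have hσ1 : σ ≫ bcFst t A = toUnit T ≫ η[A] := by
        apply Over.OverMorphism.ext
        show η[Red.bc t A].left ≫ pullback.fst A.hom t = _
        let U : Over T.left := 𝟙_ (Over T.left)
        have h := one_bc_fst t (A := A) U
        rw [Hom.one_def, Hom.one_def, toUnit_unique (toUnit U) (𝟙 U), Category.id_comp] at h
        refine h.trans ?_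
        rw [Over.comp_left, Over.comp_left]
        congr 1
      have hσ2 : σ ≫ dn t lam = 1 := by
        apply Over.OverMorphism.ext
        show η[Red.bc t A].left ≫ lam.left ≫ pullback.fst At.hom t = _
        rw [← Category.assoc, ← Over.comp_left, IsMonHom.one_hom]
        let U : Over T.left := 𝟙_ (Over T.left)
        have h := one_bc_fst t (A := At) U
        rw [Hom.one_def, Hom.one_def, toUnit_unique (toUnit U) (𝟙 U), Category.id_comp] at h
        refine h.trans ?_
        rw [Hom.one_def, Over.comp_left, Over.comp_left]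
        congr 1
      have h2 := congrArg (PicCalc.ph σ) h1
      rw [← PicCalc.ph_comp σ sndT, hσ, PicCalc.ph_id, graphDiff, map_mul, map_inv, ← PicCalc.ph_comp,
        ← PicCalc.ph_comp, hσ1, comp_lift, MonObj.comp_pow, hσ2, one_pow, PicCalc.ph_comp (toUnit T), hrig,
        map_one, hσ1, show lift (toUnit T ≫ η[A]) (1 : T ⟶ At) = (1 : T ⟶ At) ≫ lift (1 : At ⟶ A) (𝟙 At) from by
          rw [comp_lift, MonObj.comp_one, Category.comp_id, Hom.one_def (M := A)], PicCalc.ph_comp] at h2
      change (1 : PicLoc.PicSet T.left) * (PicCalc.ph _ (PhiInj.rig x))⁻¹ = m at h2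
      rw [hxr, map_one, inv_one, _root_.mul_one] at h2
      rw [← h2, map_one]
    · intro h
      obtain ⟨M, hM, hMe⟩ := PicGrp.exists_eq_cls (1 : PicLoc.PicSet T.left)
      refine ⟨M, TensorMod.LocFree.of_isInvertible hM, (PicGrp.cl_eq_cl_iff _ _).1 ?_⟩
      rw [← PicLoc.pullCl_cl, ← PicLoc.pullCl_cl]
      have h1 := congrArg Subtype.val (hd.trans h)
      rw [hDe, PicCalc.ph_val, PicGrp.cls_val] at h1
      let Po : Over S := Over.mk (pullback.snd f₁ g ≫ t)
      let ro : Po ⟶ res t (Red.bc t A) := Over.homMk r (by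
        show r ≫ pullback.snd A.hom t ≫ t = pullback.snd f₁ g ≫ t
        rw [pullback.lift_snd_assoc])
      let so : Po ⟶ T := Over.homMk (pullback.snd f₁ g) rfl
      have e1 : PicF.pullCl r (1 : PicLoc.PicSet (res t (Red.bc t A)).left).1 =
          (1 : PicLoc.PicSet Po.left).1 := by
        rw [← map_one (PicCalc.ph ro)]; rfl
      have e2 : PicF.pullCl (pullback.snd f₁ g) (PicF.cl M) = (1 : PicLoc.PicSet Po.left).1 := by
        rw [← map_one (PicCalc.ph so), hMe]; rfl
      rw [e2, ← e1, ← hrf, PicLoc.pullCl_comp]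
      exact congrArg (PicF.pullCl r) h1
  constructor
  · rintro ⟨h, hh⟩
    obtain ⟨lam, hlam, hlamp⟩ := hdesc T ⟨h ≫ j₀, by rw [Category.assoc, hh]⟩
    refine ⟨lam, hlam, (isLambda_bc_iff hdual hL hN hN' T _).2 ?_,
      (hcomp (h ≫ j₀) (by rw [Category.assoc, hh]) lam hlam hlamp).1 ⟨h, rfl⟩⟩
    rw [← hpow T lam hlam, hlamp]
  · rintro ⟨lam, hlam, hlamL, hgr⟩
    haveI := hlam
    have hlamp : (Over.pullback t).map p ≫ lam = (Over.pullback t).map Φ :=
      (hpow T lam hlam).trans ((isLambda_bc_iff hdual hL hN hN' T _).1 hlamL)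
    obtain ⟨g, hg⟩ := (hfac T).2 fun U z hz => by
      rw [← hlamp, ← Category.assoc, hz, MonObj.one_comp]
    obtain ⟨u', hu'⟩ := (hcomp g hg lam hlam hlamp).2 hgr
    exact ⟨u', by rw [← Category.assoc, hu', hg]⟩

end Groth.Agent.H4.KerDual
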