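import Groth.Agent.H4.KerDual.Pairing
import Groth.Agent.H4.KernelSquare

/-!
# Properties of the pairing: multiplicativity and separation
-/

set_option autoImplicit false
set_option linter.style.haveILetI false
set_option linter.unusedSectionVars false

universe u

open CategoryTheory CategoryTheory.Limits MonoidalCategory CartesianMonoidalCategory MonObj AlgebraicGeometry Opposite

noncomputable section

namespace Groth.Agent.H4.KerDual

open Groth.Agent.H3 Groth.Agent.H4.PicZero Groth.Agent.Lib Groth.Agent.Lib.H3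

local instance (Y : Scheme.{u}) : PicGrp.Law Y := Groth.Agent.Lib.TensorMod.Invertible.law Y

variable {k : Type u} [Field k] {X Y N M : Over (Spec (CommRingCat.of k))}
  [GrpObj X] [GrpObj Y] [GrpObj N] [IsProper X.hom] [GeometricallyIntegral X.hom]
  [IsProper Y.hom] [GeometricallyIntegral Y.hom] [LocallyOfFiniteType N.hom]
  [LocallyOfFiniteType M.hom]
  {Yt : Over (Spec (CommRingCat.of k))} [GrpObj Yt]
  {φY : ∀ T : Over (Spec (CommRingCat.of k)), PicF.Cl (PicF.XT Y.hom T) → (T ⟶ Yt)}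
  (hY : AbDual.IsDualAV Scheme.fppfPrecoverage Y Yt φY)
  {f : X ⟶ Y} [IsMonHom f] {i : N ⟶ X} [IsMonHom i]
  (y : M ⟶ Yt)

variable (f i φY) in
/-- `χ` computes all characters. -/
def IsPairing (χ : Γ((N ⊗ M).left, ⊤)) : Prop :=
  ∀ (W : Over (Spec (CommRingCat.of k))) (g : W ⟶ M) (v : W ⟶ N)
    (b : PicLoc.PicSet (Y ⊗ W).left), LocallyOfFiniteType W.hom → Rep φY (g ≫ y) b →
      CharOf f i b v ((lift v g).left.appTop.hom χ)

variable {y} {χ : Γ((N ⊗ M).left, ⊤)} (hχ : IsPairing φY f i y χ)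

include hY hχ in
/-- The pairing is multiplicative in the first variable. -/
theorem IsPairing.mul {W : Over (Spec (CommRingCat.of k))} [LocallyOfFiniteType W.hom]
    (v v' : W ⟶ N) (g : W ⟶ M) :
    (lift (v * v') g).left.appTop.hom χ =
      (lift v g).left.appTop.hom χ * (lift v' g).left.appTop.hom χ := by
  refine fun_ext_rep hY (g ≫ y) fun U w b hU hb => ?_
  rw [← Category.assoc] at hb
  have hv := hχ U (w ≫ g) (w ≫ v) b hU hb
  have hv' := hχ U (w ≫ g) (w ≫ v') b hU hb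
  have hvv := hχ U (w ≫ g) (w ≫ (v * v')) b hU hb
  have e : ∀ z : W ⟶ N, w.left.appTop.hom ((lift z g).left.appTop.hom χ) =
      (lift (w ≫ z) (w ≫ g)).left.appTop.hom χ := fun z => by
    rw [← comp_lift, Over.comp_left, Scheme.Hom.comp_appTop]
    rfl
  rw [map_mul, e, e, e]
  refine hvv.unique ?_
  rw [MonObj.comp_mul]
  exact hv.mul hv'

variable [Flat f.left] [Surjective f.left] [QuasiCompact f.left]

variable {Xt : Over (Spec (CommRingCat.of k))} [GrpObj Xt]
  {φX : ∀ T : Over (Spec (CommRingCat.of k)), PicF.Cl (PicF.XT X.hom T) → (T ⟶ Xt)}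
  (hX : AbDual.IsDualAV Scheme.fppfPrecoverage X Xt φX)
  {ft : Yt ⟶ Xt} (hft : AbDual.IsTranspose f φX φY ft) (hker : AlgGrp.IsKernel i f)
  (hy : y ≫ ft = 1)

include hY hχ hX hft hker hy in
/-- The pairing at the unit is `1`. -/
theorem IsPairing.one {W : Over (Spec (CommRingCat.of k))} [LocallyOfFiniteType W.hom] (g : W ⟶ M) :
    (lift (1 : W ⟶ N) g).left.appTop.hom χ = 1 := by
  refine fun_ext_rep hY (g ≫ y) fun U w b hU hb => ?_
  rw [← Category.assoc] at hb
  haveI : IsLocallyNoetherian U.left := LocallyOfFiniteType.isLocallyNoetherian U.hom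
  have hk : Killed f b := hb.killed hX hft (by rw [Category.assoc, hy, MonObj.comp_one])
  obtain ⟨c, hu, hc⟩ := exists_charOf (hif (KernelSquare.comp_eq_one f i hker)) hk (1 : U ⟶ N)
  have h11 := hc.mul hc
  rw [_root_.one_mul] at h11
  have hc1 : c = 1 := (hu.mul_eq_left).1 (h11.unique hc)
  have h := hχ U (w ≫ g) (1 : U ⟶ N) b hU hb
  have e : w.left.appTop.hom ((lift (1 : W ⟶ N) g).left.appTop.hom χ) =
      (lift (1 : U ⟶ N) (w ≫ g)).left.appTop.hom χ := by
    rw [show (1 : U ⟶ N) = w ≫ (1 : W ⟶ N) from (MonObj.comp_one w).symm, ← comp_lift, Over.comp_left, Scheme.Hom.comp_appTop]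
    rfl
  rw [e, (hχ U (w ≫ g) (1 : U ⟶ N) b hU hb).unique hc, hc1, map_one]

include hY hχ hX hft hker hy in
/-- The pairing separates points. -/
theorem IsPairing.ext {W : Over (Spec (CommRingCat.of k))} [LocallyOfFiniteType W.hom]
    {g g' : W ⟶ M} (h : (N ◁ g).left.appTop.hom χ = (N ◁ g').left.appTop.hom χ) :
    g ≫ y = g' ≫ y := by
  have hi : i ≫ f = 1 := KernelSquare.comp_eq_one f i hker
  apply Over.OverMorphism.ext
  refine hom_ext_of_fppf fun x => ?_
  obtain ⟨U₁, u₁, hu₁, hu₁', b₁, ⟨z₁, hz₁⟩, hb₁⟩ := exists_rep hY (g ≫ y) x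
  obtain ⟨U, u, hu, hu', b₂, ⟨z, hz⟩, hb₂⟩ := exists_rep hY (u₁ ≫ g' ≫ y) z₁
  haveI := hu₁'
  haveI := hu'
  haveI := hu₁
  haveI := hu
  haveI : LocallyOfFiniteType U₁.hom := lft_of_hom u₁
  haveI hU : LocallyOfFiniteType U.hom := lft_of_hom u
  haveI : IsLocallyNoetherian U.left := LocallyOfFiniteType.isLocallyNoetherian U.hom
  refine ⟨U.left, (u ≫ u₁).left, inferInstanceAs (Flat (u.left ≫ u₁.left)),
    ⟨z, by rw [Over.comp_left, Scheme.Hom.comp_apply, hz, hz₁]⟩, ?_⟩
  let w := u ≫ u₁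
  have hr₁ : Rep φY ((w ≫ g) ≫ y) (PicCalc.ph (Y ◁ u) b₁) := by
    have := hb₁.pull hY u
    simpa only [w, Category.assoc] using this
  have hr₂ : Rep φY ((w ≫ g') ≫ y) b₂ := by simpa only [w, Category.assoc] using hb₂
  have hk : ∀ (m : W ⟶ M) (c : PicLoc.PicSet (Y ⊗ U).left), Rep φY ((w ≫ m) ≫ y) c → Killed f c :=
    fun m c hc => hc.killed hX hft (by rw [Category.assoc, hy, MonObj.comp_one])
  haveI : LocallyOfFiniteType (N ⊗ U).hom := locallyOfFiniteType_tensor N U
  have huniv : ∀ (m : W ⟶ M) (c : PicLoc.PicSet (Y ⊗ U).left), Rep φY ((w ≫ m) ≫ y) c →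
      ∀ {V : Over (Spec (CommRingCat.of k))} (t : V ⟶ U) (v : V ⟶ N),
        CharOf f i (PicCalc.ph (Y ◁ t) c) v
          ((lift v (t ≫ w)).left.appTop.hom ((N ◁ m).left.appTop.hom χ)) := by
    intro m c hc V t v
    have hc' := hc.pull hY (snd N U)
    rw [← Category.assoc] at hc'
    have h1 := (hχ _ (snd N U ≫ w ≫ m) (fst N U) _ inferInstance hc').natural (lift v t)
    rw [← PicCalc.ph_comp, ← whiskerLeft_comp, lift_snd, lift_fst, ← CommRingCat.comp_apply,
      ← Scheme.Hom.comp_appTop, ← Over.comp_left] at h1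
    rw [← CommRingCat.comp_apply, ← Scheme.Hom.comp_appTop, ← Over.comp_left]
    convert h1 using 5
    simp
  have hb : PicCalc.ph (Y ◁ u) b₁ = b₂ := by
    refine eq_of_charOf (hif hi) (fun {V} a a' haa => ?_) (hk g _ hr₁) (hk g' _ hr₂)
      fun {V} t v c c' hc hc' => ?_
    · have hd : (a⁻¹ * a') ≫ f = toUnit V ≫ η[Y] := by
        rw [MonObj.mul_comp, GrpObj.inv_comp, ← haa, inv_mul_cancel, Hom.one_def]
      exact ⟨hker.lift (a⁻¹ * a') (toUnit V) hd, by rw [hker.lift_fst, mul_inv_cancel_left]⟩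
    · rw [hc.unique (huniv g _ hr₁ t v), hc'.unique (huniv g' _ hr₂ t v), h]
  have e := hr₁.phi.symm.trans ((congrArg (fun z => φY U z.1) hb).trans hr₂.phi)
  have e' := congrArg Over.Hom.left e
  simpa [w] using e'

end Groth.Agent.H4.KerDual
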