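import Groth.Agent.H4.KerDual.Frame
import Groth.Agent.Lib.H3.PhiInj

/-!
# Rigidified classes attached to points of the dual
-/

set_option autoImplicit false
set_option linter.style.haveILetI false
set_option linter.unusedSectionVars false

universe u

open CategoryTheory CategoryTheory.Limits MonoidalCategory CartesianMonoidalCategory MonObj AlgebraicGeometry

noncomputable section

namespace Groth.Agent.H4.KerDual

open Groth.Agent.H3 Groth.Agent.H4.PicZero Groth.Agent.Lib.H3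

local instance (Y : Scheme.{u}) : PicGrp.Law Y := Groth.Agent.Lib.TensorMod.Invertible.law Y

/-- Twisting by a class from the parameters preserves `Pic⁰`. -/
theorem isPicZeroCl_twist {S : Scheme.{u}} {X T : Over S} {b : PicLoc.PicSet (X ⊗ T).left}
    (hb : AbDual.IsPicZeroCl X.hom T b.1) (n : PicLoc.PicSet T.left) :
    AbDual.IsPicZeroCl X.hom T (b * PicCalc.ph (snd X T) n).1 := by
  obtain ⟨L, hLb, hL, hL0⟩ := hb
  obtain ⟨L', hL', hL'b⟩ := PicGrp.exists_eq_cls (b * PicCalc.ph (snd X T) n)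
  refine ⟨L', (congrArg Subtype.val hL'b).symm, hL', fun t Ω _ _ σ hσ => ?_⟩
  obtain ⟨T₁, q, hconn, hlft, hqc, M, hM, t₁, t₀, ht, ht₀, ⟨e⟩, e₀⟩ := hL0 t Ω σ hσ
  let π := pullback.fst (PicF.XTproj X.hom T) σ
  let p := pullback.snd (PicF.XTproj X.hom T) σ
  let V : Over S := Over.mk (π ≫ (X ⊗ T).hom)
  let P : Over S := Over.mk (σ ≫ T.hom)
  let πo : V ⟶ X ⊗ T := Over.homMk π rfl
  let σo : P ⟶ T := Over.homMk σ rfl
  have hps : p ≫ σ = π ≫ (snd X T).left := pullback.condition.symm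
  let po : V ⟶ P := Over.homMk p (by
    show p ≫ σ ≫ T.hom = π ≫ (X ⊗ T).hom
    rw [← Category.assoc, hps, Category.assoc, Over.w])
  have hpo : po ≫ σo = πo ≫ snd X T := Over.OverMorphism.ext hps
  haveI : Subsingleton P.left := inferInstanceAs (Subsingleton (PrimeSpectrum Ω))
  haveI : Nonempty P.left := inferInstanceAs (Nonempty (PrimeSpectrum Ω))
  have hh : PicCalc.ph πo (b * PicCalc.ph (snd X T) n) = PicCalc.ph πo b := by
    rw [map_mul, ← PicCalc.ph_comp, ← hpo, PicCalc.ph_comp,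
      PicCalc.eq_one_of_subsingleton (PicCalc.ph σo n), map_one, _root_.mul_one]
  have h2 := congrArg Subtype.val hh
  rw [PicCalc.ph_val, PicCalc.ph_val, hL'b, PicGrp.cls_val, ← hLb] at h2
  obtain ⟨e'⟩ := (PicGrp.cl_eq_cl_iff ((Scheme.Modules.pullback π).obj L')
    ((Scheme.Modules.pullback π).obj L)).1 h2
  exact ⟨T₁, q, hconn, hlft, hqc, M, hM, t₁, t₀, ht, ht₀, ⟨e ≪≫ e'.symm⟩, e₀⟩

variable {k : Type u} [Field k] {X Y : Over (Spec (CommRingCat.of k))}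
  [GrpObj X] [GrpObj Y] {Xt Yt : Over (Spec (CommRingCat.of k))} [GrpObj Xt] [GrpObj Yt]
  {φX : ∀ T : Over (Spec (CommRingCat.of k)), PicF.Cl (PicF.XT X.hom T) → (T ⟶ Xt)}
  {φY : ∀ T : Over (Spec (CommRingCat.of k)), PicF.Cl (PicF.XT Y.hom T) → (T ⟶ Yt)}
  {T T' : Over (Spec (CommRingCat.of k))}

variable (φY) in
/-- `b` is a rigidified class with point `y`. -/
structure Rep (y : T ⟶ Yt) (b : PicLoc.PicSet (Y ⊗ T).left) : Prop where
  zero : AbDual.IsPicZeroCl Y.hom T b.1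
  rig : PhiInj.rig b = 1
  phi : φY T b.1 = y

theorem Rep.pull (hY : AbDual.IsDualAV Scheme.fppfPrecoverage Y Yt φY) {y : T ⟶ Yt}
    {b : PicLoc.PicSet (Y ⊗ T).left} (h : Rep φY y b) (g : T' ⟶ T) :
    Rep φY (g ≫ y) (PicCalc.ph (Y ◁ g) b) :=
  ⟨isPicZeroCl_ph g _ (whiskerLeft_snd _ _) h.zero,
    by rw [PhiInj.rig_ph, h.rig, map_one],
    by rw [phi_natural hY g h.zero, h.phi]⟩

theorem Rep.eq [IsProper Y.hom] [Flat Y.hom] [GeometricallyIntegral Y.hom]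
    [IsLocallyNoetherian T.left] (hY : AbDual.IsDualAV Scheme.fppfPrecoverage Y Yt φY) {y : T ⟶ Yt}
    {b b' : PicLoc.PicSet (Y ⊗ T).left} (h : Rep φY y b) (h' : Rep φY y b') : b = b' :=
  PhiInj.eq_of_phi_eq hY h.zero h'.zero h.rig h'.rig (h.phi.trans h'.phi.symm)

theorem isPicZeroCl_one_of_rep {y : T ⟶ Yt} {b : PicLoc.PicSet (Y ⊗ T).left} (h : Rep φY y b) :
    AbDual.IsPicZeroCl X.hom T (1 : PicLoc.PicSet (X ⊗ T).left).1 := by
  let m : X ⊗ T ⟶ Y ⊗ T := lift (1 : X ⊗ T ⟶ Y) (snd X T)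
  have hm : m = snd X T ≫ lift (1 : T ⟶ Y) (𝟙 T) := by
    apply CartesianMonoidalCategory.hom_ext <;> simp [m]
  have h1 : PicCalc.ph m b = 1 := by
    rw [hm, PicCalc.ph_comp, show PicCalc.ph (lift (1 : T ⟶ Y) (𝟙 T)) b = 1 from h.rig, map_one]
  rw [← h1]
  exact isPicZeroCl_ph (𝟙 T) m (by simp [m]) h.zero

theorem Rep.killed [IsProper X.hom] [Flat X.hom] [GeometricallyIntegral X.hom]
    [IsLocallyNoetherian T.left] (hX : AbDual.IsDualAV Scheme.fppfPrecoverage X Xt φX)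
    {f : X ⟶ Y} [IsMonHom f] {ft : Yt ⟶ Xt} (hft : AbDual.IsTranspose f φX φY ft)
    {y : T ⟶ Yt} (hy : y ≫ ft = 1) {b : PicLoc.PicSet (Y ⊗ T).left} (h : Rep φY y b) :
    Killed f b := by
  refine PhiInj.eq_of_phi_eq hX (isPicZeroCl_ph (𝟙 T) _ (by simp) h.zero)
    (isPicZeroCl_one_of_rep h) ?_ (map_one _) ?_
  · have e : lift (1 : T ⟶ X) (𝟙 T) ≫ f ▷ T = lift (1 : T ⟶ Y) (𝟙 T) := by
      apply CartesianMonoidalCategory.hom_ext
      · rw [Category.assoc, whiskerRight_fst, lift_fst, lift_fst_assoc, MonObj.one_comp]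
      · simp
    rw [PhiInj.rig, ← PicCalc.ph_comp, e]
    exact h.rig
  · rw [PicCalc.ph_val, ← bcMap_eq, hft T b.1 h.zero, h.phi, hy,
      phi_one hX (isPicZeroCl_one_of_rep h)]

/-- Locally for the fppf topology a point of the dual has a rigidified class. -/
theorem exists_rep (hY : AbDual.IsDualAV Scheme.fppfPrecoverage Y Yt φY) (y : T ⟶ Yt) (t : T.left) :
    ∃ (U : Over (Spec (CommRingCat.of k))) (u : U ⟶ T) (_ : Flat u.left)
      (_ : LocallyOfFinitePresentation u.left) (b : PicLoc.PicSet (Y ⊗ U).left),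
      t ∈ Set.range u.left ∧ Rep φY (u ≫ y) b := by
  obtain ⟨R, hR, hloc⟩ := hY.relPic.locallySurjective T y
  obtain ⟨hcov, hprop⟩ := fppf_cover_props hR
  obtain ⟨U, u, hu, ht⟩ := hcov t
  obtain ⟨c, hc, hφ⟩ := hloc u hu
  obtain ⟨a, rfl⟩ : ∃ a : PicLoc.PicSet (Y ⊗ AbDual.ovr T u).left, a.1 = c := by
    obtain ⟨L, hL, hLi, -⟩ := hc
    exact ⟨PicGrp.cls L hLi, hL⟩
  have hz := isPicZeroCl_twist hc (PhiInj.rig a)⁻¹
  refine ⟨AbDual.ovr T u, AbDual.ovrHom T u, (hprop u hu).1, (hprop u hu).2,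
    a * PicCalc.ph (snd Y _) (PhiInj.rig a)⁻¹, ht, hz, ?_, ?_⟩
  · rw [PhiInj.rig_mul, PhiInj.rig_snd, mul_inv_cancel]
  · rw [PhiInj.phi_eq_of_eq_mul hY hz hc _ rfl, hφ]

end Groth.Agent.H4.KerDual
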