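import Groth.Agent.H3.Commutator
import Groth.Agent.H3.PicCalc
import Groth.Agent.Lib.TensorMod.Invertible

/-!
# Commutators after symmetrisation by an involution
-/

set_option autoImplicit false
set_option linter.style.haveILetI false
set_option linter.unusedSectionVars false

universe u

open CategoryTheory CategoryTheory.Limits MonoidalCategory CartesianMonoidalCategory MonObj AlgebraicGeometry

noncomputable section

namespace Groth.Agent.H4.KerDual

open Groth.Agent.H3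

variable {k : Type u} [Field k] {A B : Over (Spec (CommRingCat.of k))}
  [GrpObj A] [IsProper A.hom] [GeometricallyIntegral A.hom] [IsCommMonObj A]
  [GrpObj B] [IsProper B.hom] [GeometricallyIntegral B.hom] [IsCommMonObj B]
  {L : A.left.Modules} {M : B.left.Modules} {T : Over (Spec (CommRingCat.of k))}

/-- The morphism of theta objects along a homomorphism. -/
theorem exists_transfer (f : A ⟶ B) [IsMonHom f] (e : L ≅ (Scheme.Modules.pullback f.left).obj M)
    (T : Over (Spec (CommRingCat.of k))) :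
    ∃ P : ThetaGrp.thetaObj A L T ⟶ ThetaGrp.thetaObj B M T, IsIso P.fiber ∧ P.base = (f ▷ T).left ∧
      ∀ a : T ⟶ A, (ThetaGrp.transl A a).left ≫ P.base = P.base ≫ (ThetaGrp.transl B (a ≫ f)).left := by
  have hb : IsIso (Cartesian.toBase M T).fiber :=
    (show IsIso (𝟙 ((Scheme.Modules.pullback (fst B T).left).obj M)) from inferInstance)
  obtain ⟨P, ⟨h1, h2⟩, -⟩ := Cartesian.exists_unique_lift (Cartesian.toBase M T) hb (f ▷ T).left
    (Cartesian.proj f M e T) (by
      show (fst A T ≫ f).left = (f ▷ T).left ≫ (fst B T).left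
      rw [← Over.comp_left, whiskerRight_fst])
  refine ⟨P, ThetaMaps.isIso_fiber_of_comp P _ hb (h2.symm ▸ Cartesian.isIso_proj_fiber f M e T), h1, fun a => ?_⟩
  rw [h1, ← Over.comp_left, ← Over.comp_left]
  congr 1
  apply CartesianMonoidalCategory.hom_ext
  · simp only [Category.assoc, whiskerRight_fst, ThetaGrp.transl_fst, MonObj.comp_mul,
      whiskerRight_snd_assoc]
    rw [← Category.assoc, ThetaGrp.transl_fst, MonObj.mul_comp, Category.assoc]
  · simp only [Category.assoc, whiskerRight_snd, ThetaGrp.transl_snd]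

variable (hM : PicF.IsInvertible M)

include hM in
/-- The commutator scalar is multiplicative in the first variable. -/
theorem comm_mul_left {x y v : T ⟶ B} {r s : Γ(T.left, ⊤)} {bx bv : ThetaGrp.thetaPts B M T}
    {bz : ThetaGrp.thetaPts B M T} (hx : ThetaGrp.IsOverPt bx x) (hy : ThetaGrp.IsOverPt bz y)
    (hv : ThetaGrp.IsOverPt bv v) (hr : Commutator.Comm M x v r) (hs : Commutator.Comm M y v s) :
    Commutator.Comm M (x * y) v (r * s) := by
  intro β₁ β₂ h₁ h₂
  refine Commutator.commutator_indep hM h₁ (β₁' := bx * bz)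
    (by rw [_root_.mul_comm x y]; exact Cartesian.overPt_mul hx hy) h₂ (β₂' := bv) hv ?_
  have e1 : bv.1.hom ≫ bx.1.hom = Scalars.act ((snd B T).left.appTop.hom r) (bx.1.hom ≫ bv.1.hom) :=
    hr bx bv hx hv
  have e2 : bv.1.hom ≫ bz.1.hom = Scalars.act ((snd B T).left.appTop.hom s) (bz.1.hom ≫ bv.1.hom) :=
    hs bz bv hy hv
  show bv.1.hom ≫ bz.1.hom ≫ bx.1.hom = Scalars.act _ ((bz.1.hom ≫ bx.1.hom) ≫ bv.1.hom)
  rw [← Category.assoc, e2, Scalars.act_comp, Category.assoc, e1, Scalars.comp_act, Scalars.act_act,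
    hy, Scalars.transl_appTop, map_mul, Category.assoc]

include hM in
/-- If an involution invariant module has points over `z₁, z₂ = σ(z₁)` with `z₁² = 1` and over a fixed `v`,
lifts of `z₁ z₂` and `v` commute. -/
theorem commute_symmetrized (σ : B ⟶ B) [IsMonHom σ] (e : M ≅ (Scheme.Modules.pullback σ.left).obj M)
    {z₁ z₂ v : T ⟶ B} (hz : z₁ * z₁ = 1) (hσ : z₂ ≫ σ = z₁) (hv : v ≫ σ = v)
    {b₁ b₂ bv : ThetaGrp.thetaPts B M T} (h₁ : ThetaGrp.IsOverPt b₁ z₁) (h₂ : ThetaGrp.IsOverPt b₂ z₂)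
    (hbv : ThetaGrp.IsOverPt bv v) {β₁ β₂ : ThetaGrp.thetaPts B M T}
    (hβ₁ : ThetaGrp.IsOverPt β₁ (z₁ * z₂)) (hβ₂ : ThetaGrp.IsOverPt β₂ v) : β₁ * β₂ = β₂ * β₁ := by
  obtain ⟨r, hr⟩ := Commutator.exists_comm hM ⟨b₁, h₁⟩ ⟨bv, hbv⟩
  have hr2 : Commutator.Comm M z₂ v r := by
    obtain ⟨P, hP, hPb, hPt⟩ := exists_transfer σ e T
    obtain ⟨c₂, hc₂, e₂⟩ := ThetaMaps.exists_lift P hP b₁ h₁ (x := z₂) (by rw [hPt, hσ])
    obtain ⟨cv, hcv, ev⟩ := ThetaMaps.exists_lift P hP bv hbv (x := v) (by rw [hPt, hv])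
    intro γ₁ γ₂ hγ₁ hγ₂
    refine Commutator.commutator_indep hM hγ₁ hc₂ hγ₂ hcv ?_
    refine Cartesian.eq_of_comp_eq P hP ?_ ?_
    · rw [Scalars.act_base, Cartesian.overPt_mul hc₂ hcv, Cartesian.overPt_mul hcv hc₂, _root_.mul_comm]
    · rw [Scalars.act_comp, ThetaMaps.comp_eq_of_lift e₂ ev, ThetaMaps.comp_eq_of_lift ev e₂,
        hr b₁ bv h₁ hbv, Scalars.comp_act, hPb, ← CommRingCat.comp_apply, ← Scheme.Hom.comp_appTop,
        ← Over.comp_left, whiskerRight_snd]
  have h11 : r * r = 1 := by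
    have h := comm_mul_left hM h₁ h₁ hbv hr hr
    rw [hz] at h
    refine Commutator.comm_unique hM ⟨1, Cartesian.overPt_one M T⟩ ⟨bv, hbv⟩ h ?_
    intro γ₁ γ₂ hγ₁ hγ₂
    refine Commutator.commutator_indep hM hγ₁ (Cartesian.overPt_one M T) hγ₂ hbv ?_
    rw [map_one, Scalars.act_one, _root_.one_mul, _root_.mul_one]
  have h := comm_mul_left hM h₁ h₂ hbv hr hr2
  rw [h11] at h
  exact ThetaMaps.eq_of_act (h β₁ β₂ hβ₁ hβ₂) (map_one _)

end Groth.Agent.H4.KerDual
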