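import Groth.Agent.H4.KerDual.GraphPol
import Groth.Agent.H4.KerDual.ThetaSq
import Groth.Agent.Lib.H3.KLExists
import Groth.Agent.H3.KLBasics
import Groth.Agent.S19948
import Groth.Agent.H4.Chow.Hom

/-!
# A symmetric homomorphism to the dual is a `φ_M` over an algebraically closed field
-/

set_option autoImplicit false
set_option linter.style.haveILetI false
set_option linter.unusedSectionVars false

universe u

open CategoryTheory CategoryTheory.Limits MonoidalCategory CartesianMonoidalCategory MonObj AlgebraicGeometry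

noncomputable section

namespace Groth.Agent.H4.KerDual

open Groth.Agent.H3 Groth.Agent.H4.PicZero Groth.Agent.Lib Groth.Agent.Lib.H3

local instance symmDescendLaw (Y : Scheme.{u}) : PicGrp.Law Y := Groth.Agent.Lib.TensorMod.Invertible.law Y

variable {k : Type u} [Field k] [IsAlgClosed k] {A At : Over (Spec (CommRingCat.of k))}
  [GrpObj A] [IsCommMonObj A] [IsProper A.hom] [Smooth A.hom] [GeometricallyConnected A.hom]
  [GrpObj At] [IsCommMonObj At] [IsProper At.hom]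
  {φ : AgPol.DualMap A At} (hdual : AbDual.IsDualAV Scheme.fppfPrecoverage A At φ)
  {x : PicLoc.PicSet (A ⊗ At).left} (hx0 : AbDual.IsPicZeroCl A.hom At x.1) (hxr : PhiInj.rig x = 1)
  (hxφ : ∀ {V : Over (Spec (CommRingCat.of k))} (g : V ⟶ At), φ V (PicCalc.ph (A ◁ g) x).1 = g)
  (lam : A ⟶ At) [IsMonHom lam]
  (hs : ∀ {V : Over (Spec (CommRingCat.of k))} (p q : V ⟶ A),
    PicCalc.ph (lift p q) (PicCalc.ph (A ◁ lam) x) = PicCalc.ph (lift q p) (PicCalc.ph (A ◁ lam) x))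

include hx0 hxr hs in
/-- The graph class restricted to the diagonal is quadratic. -/
theorem diag_mul {V : Over (Spec (CommRingCat.of k))} (p q : V ⟶ A) :
    PicCalc.ph (lift (p * q) (p * q)) (PicCalc.ph (A ◁ lam) x) =
      PicCalc.ph (lift p p) (PicCalc.ph (A ◁ lam) x) * PicCalc.ph (lift q q) (PicCalc.ph (A ◁ lam) x) *
        (PicCalc.ph (lift p q) (PicCalc.ph (A ◁ lam) x) * PicCalc.ph (lift p q) (PicCalc.ph (A ◁ lam) x)) := by
  rw [graph_add hx0 hxr, hs p (p * q), hs q (p * q), graph_add hx0 hxr, graph_add hx0 hxr, hs q p]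
  generalize PicCalc.ph (lift p p) (PicCalc.ph (A ◁ lam) x) = u
  generalize PicCalc.ph (lift q q) (PicCalc.ph (A ◁ lam) x) = v
  generalize PicCalc.ph (lift p q) (PicCalc.ph (A ◁ lam) x) = w
  rw [_root_.mul_comm w v, _root_.mul_mul_mul_comm u w v w]

include hdual hx0 hxr hxφ hs in
/-- A point killed by `2` fixes the restriction to the diagonal, up to the parameters. -/
theorem transTriv_diag {T : Over (Spec (CommRingCat.of k))} {a : T ⟶ A} (ha : a * a = 1) :
    PicCalc.TransTriv A (PicCalc.ph (lift (𝟙 A) (𝟙 A)) (PicCalc.ph (A ◁ lam) x)) a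
      (PicCalc.ph a (PicCalc.ph (lift (𝟙 A) (𝟙 A)) (PicCalc.ph (A ◁ lam) x))) := by
  show PicCalc.ph (ThetaGrp.transl A a ≫ fst A T) _ = _
  rw [ThetaGrp.transl_fst, ← PicCalc.ph_comp (snd A T) a,
    ← PicCalc.ph_comp (fst A T * snd A T ≫ a) (lift (𝟙 A) (𝟙 A)),
    ← PicCalc.ph_comp (fst A T) (lift (𝟙 A) (𝟙 A)),
    ← PicCalc.ph_comp (snd A T ≫ a) (lift (𝟙 A) (𝟙 A)), comp_lift, comp_lift, comp_lift, Category.comp_id, Category.comp_id, Category.comp_id,
    diag_mul hx0 hxr lam hs]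
  have h : PicCalc.ph (lift (fst A T) (snd A T ≫ a)) (PicCalc.ph (A ◁ lam) x) *
      PicCalc.ph (lift (fst A T) (snd A T ≫ a)) (PicCalc.ph (A ◁ lam) x) = 1 := by
    have h := graph_add hx0 hxr lam (snd A T ≫ a) (snd A T ≫ a) (fst A T)
    rw [← MonObj.comp_mul, ha, MonObj.comp_one, hs (1 : A ⊗ T ⟶ A), hs (snd A T ≫ a),
      graph_one_right hdual hx0 hxr hxφ] at h
    exact h.symm
  rw [h, _root_.mul_one]

set_option maxHeartbeats 1000000 in
include hdual hx0 hxr hxφ hs in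
/-- The kernel of multiplication by `2` is isotropic for the square of the diagonal class. -/
theorem isIsotropic_sq {L : A.left.Modules} (hL : PicF.IsInvertible L)
    (hLe : PicGrp.cls L hL = PicCalc.ph (lift (𝟙 A) (𝟙 A)) (PicCalc.ph (A ◁ lam) x) *
      PicCalc.ph (lift (𝟙 A) (𝟙 A)) (PicCalc.ph (A ◁ lam) x))
    {N : Over (Spec (CommRingCat.of k))} (i : N ⟶ A) (hi : i * i = 1) : ThetaGrp.IsIsotropic L i := by
  haveI := H2.Rigid.GeomIrred.geometricallyIntegral_of_smooth A.hom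
  obtain ⟨l, hldef⟩ : ∃ l, l = PicCalc.ph (lift (𝟙 A) (𝟙 A)) (PicCalc.ph (A ◁ lam) x) := ⟨_, rfl⟩
  rw [← hldef] at hLe
  let B := A ⊗ A
  haveI : IsProper B.hom := inferInstanceAs (IsProper (pullback.fst A.hom A.hom ≫ A.hom))
  haveI : Smooth B.hom := inferInstanceAs (Smooth (pullback.fst A.hom A.hom ≫ A.hom))
  haveI : GeometricallyIntegral B.hom := H4.Chow.geometricallyIntegral_prod A A
  haveI : IsCommMonObj B := isCommMonObj_of_isProper_of_geometricallyIntegral B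
  obtain ⟨M, hM, hMe⟩ := PicGrp.exists_eq_cls
    (PicCalc.ph (fst A A) l * PicCalc.ph (snd A A) l : PicLoc.PicSet B.left)
  let σ : B ⟶ B := (β_ A A).hom
  haveI : IsMonHom σ := AVHom.isMonHom_of_pointed σ (by
    apply CartesianMonoidalCategory.hom_ext <;> simp [σ])
  let δ : A ⟶ B := lift (𝟙 A) (𝟙 A)
  haveI : IsMonHom δ := AVHom.isMonHom_of_pointed δ (by
    apply CartesianMonoidalCategory.hom_ext <;> simp [δ])
  have eσ : Nonempty (M ≅ (Scheme.Modules.pullback σ.left).obj M) :=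
    (PicCalc.iso_iff (a := PicGrp.cls M hM) rfl (PicCalc.cl_pullback σ (a := PicGrp.cls M hM) rfl)).2 (by
      rw [← hMe, map_mul, ← PicCalc.ph_comp σ (fst A A), ← PicCalc.ph_comp σ (snd A A), braiding_hom_fst, braiding_hom_snd,
        _root_.mul_comm])
  have eδ : Nonempty (L ≅ (Scheme.Modules.pullback δ.left).obj M) :=
    (PicCalc.iso_iff (a := PicGrp.cls L hL) rfl (PicCalc.cl_pullback δ (a := PicGrp.cls M hM) rfl)).2 (by
      rw [← hMe, map_mul, ← PicCalc.ph_comp, ← PicCalc.ph_comp, lift_fst, lift_snd, PicCalc.ph_id, hLe])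
  intro T x₀ y₀ β₁ β₂ h₁ h₂
  have hsq : ∀ {U : Over (Spec (CommRingCat.of k))} (a : U ⟶ N), (a ≫ i) * (a ≫ i) = 1 := fun a => by
    rw [← MonObj.comp_mul, hi, MonObj.comp_one]
  refine ThetaMaps.commute_of_local hL h₁ h₂ fun t => ?_
  obtain ⟨M₁, hM₁, e₁⟩ := PicGrp.exists_eq_cls (PicCalc.ph (x₀ ≫ i) l)
  obtain ⟨M₂, hM₂, e₂⟩ := PicGrp.exists_eq_cls (PicCalc.ph (y₀ ≫ i) l)
  obtain ⟨U₁, ht₁, ⟨i₁⟩⟩ := hM₁ t
  obtain ⟨U₂, ht₂, ⟨i₂⟩⟩ := hM₂ t
  refine ⟨U₁ ⊓ U₂, ⟨ht₁, ht₂⟩, fun γ₁ γ₂ hγ₁ hγ₂ => ?_⟩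
  let V : Over (Spec (CommRingCat.of k)) := Over.mk ((U₁ ⊓ U₂).ι ≫ T.hom)
  let g : V ⟶ T := Over.homMk (U₁ ⊓ U₂).ι rfl
  have htriv : ∀ (U : T.left.Opens) (hU : U₁ ⊓ U₂ ≤ U) (P : T.left.Modules) (hP : PicF.IsInvertible P),
      Nonempty (P.restrict U.ι ≅ Coh.structureModule U.toScheme) → PicCalc.ph g (PicGrp.cls P hP) = 1 := by
    rintro U hU P hP ⟨e⟩
    let W : Over (Spec (CommRingCat.of k)) := Over.mk (U.ι ≫ T.hom)
    let j : V ⟶ W := Over.homMk (T.left.homOfLE hU) (by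
      show T.left.homOfLE hU ≫ U.ι ≫ T.hom = (U₁ ⊓ U₂).ι ≫ T.hom
      rw [Scheme.homOfLE_ι_assoc])
    let gU : W ⟶ T := Over.homMk U.ι rfl
    have hj : j ≫ gU = g := Over.OverMorphism.ext (T.left.homOfLE_ι hU)
    have h : PicCalc.ph gU (PicGrp.cls P hP) = 1 := by
      refine Subtype.ext ?_
      rw [PicCalc.ph_val, PicGrp.one_val]
      exact Quot.sound ⟨(Scheme.Modules.restrictFunctorIsoPullback U.ι).symm.app P ≪≫ e⟩
    rw [← hj, PicCalc.ph_comp, h, map_one]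
  let a := g ≫ x₀ ≫ i
  let b := g ≫ y₀ ≫ i
  have ha : a * a = 1 := by show (g ≫ x₀ ≫ i) * (g ≫ x₀ ≫ i) = 1; rw [← MonObj.comp_mul, hsq, MonObj.comp_one]
  have hb : b * b = 1 := by show (g ≫ y₀ ≫ i) * (g ≫ y₀ ≫ i) = 1; rw [← MonObj.comp_mul, hsq, MonObj.comp_one]
  have hal : PicCalc.ph a l = 1 := by
    rw [PicCalc.ph_comp, e₁]
    exact htriv U₁ inf_le_left M₁ hM₁ ⟨i₁⟩
  have hbl : PicCalc.ph b l = 1 := by
    rw [PicCalc.ph_comp, e₂]
    exact htriv U₂ inf_le_right M₂ hM₂ ⟨i₂⟩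
  have hpt : ∀ p q : V ⟶ A, p * p = 1 → q * q = 1 → PicCalc.ph p l = 1 → PicCalc.ph q l = 1 →
      ∃ β : ThetaGrp.thetaPts B M V, ThetaGrp.IsOverPt β (lift p q) := by
    intro p q hp hq hpl hql
    refine (ThetaPts.exists_thetaPt_iff hM _).2 ?_
    show PicCalc.ph (ThetaGrp.transl B (lift p q) ≫ fst B V) _ = _
    rw [← hMe, ThetaGrp.transl_fst, map_mul, ← PicCalc.ph_comp, ← PicCalc.ph_comp, MonObj.mul_comp,
      MonObj.mul_comp, Category.assoc, Category.assoc, lift_fst, lift_snd, map_one, _root_.mul_one, map_mul,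
      ← PicCalc.ph_comp, ← PicCalc.ph_comp]
    have h1 := transTriv_diag hdual hx0 hxr hxφ lam hs hp
    have h2 := transTriv_diag hdual hx0 hxr hxφ lam hs hq
    unfold PicCalc.TransTriv at h1 h2
    rw [← hldef] at h1 h2
    rw [hpl, map_one, _root_.mul_one, ThetaGrp.transl_fst] at h1
    rw [hql, map_one, _root_.mul_one, ThetaGrp.transl_fst] at h2
    have h1' := congrArg (PicCalc.ph (lift (fst B V ≫ fst A A) (snd B V))) h1
    have h2' := congrArg (PicCalc.ph (lift (fst B V ≫ snd A A) (snd B V))) h2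
    rw [← PicCalc.ph_comp, ← PicCalc.ph_comp, MonObj.comp_mul, lift_snd_assoc, lift_fst] at h1' h2'
    rw [h1', h2']
  have h1V : (1 : V ⟶ A) * 1 = 1 := _root_.mul_one _
  have h1l : PicCalc.ph (1 : V ⟶ A) l = 1 := by
    haveI : Subsingleton (𝟙_ (Over (Spec (CommRingCat.of k)))).left :=
      inferInstanceAs (Subsingleton (Spec (CommRingCat.of k)))
    haveI : Nonempty (𝟙_ (Over (Spec (CommRingCat.of k)))).left :=
      inferInstanceAs (Nonempty (Spec (CommRingCat.of k)))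
    rw [Hom.one_def, PicCalc.ph_comp, PicCalc.eq_one_of_subsingleton (PicCalc.ph η[A] _), map_one]
  obtain ⟨b₁, hb₁⟩ := hpt a 1 ha h1V hal h1l
  obtain ⟨b₂, hb₂⟩ := hpt 1 a h1V ha h1l hal
  obtain ⟨bv, hbv⟩ := hpt b b hb hb hbl hbl
  obtain ⟨bw, hbw⟩ := hpt a a ha ha hal hal
  have emul : lift a (1 : V ⟶ A) * lift (1 : V ⟶ A) a = lift a a := by
    apply CartesianMonoidalCategory.hom_ext <;> simp [MonObj.mul_comp]
  have hc : bw * bv = bv * bw := by
    refine commute_symmetrized hM σ eσ.some ?_ ?_ ?_ hb₁ hb₂ hbv (by rw [emul]; exact hbw) hbv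
    · apply CartesianMonoidalCategory.hom_ext <;> simp [MonObj.mul_comp, MonObj.one_comp, ha]
    · apply CartesianMonoidalCategory.hom_ext <;> simp [σ]
    · apply CartesianMonoidalCategory.hom_ext <;> simp [σ]
  obtain ⟨P, hP, -, hPt⟩ := exists_transfer δ eδ.some V
  have ea : a ≫ δ = lift a a := by apply CartesianMonoidalCategory.hom_ext <;> simp [δ]
  have eb : b ≫ δ = lift b b := by apply CartesianMonoidalCategory.hom_ext <;> simp [δ]
  obtain ⟨c₁, hc₁, f₁⟩ := ThetaMaps.exists_lift P hP bw hbw (x := a) (by rw [hPt, ea])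
  obtain ⟨c₂, hc₂, f₂⟩ := ThetaMaps.exists_lift P hP bv hbv (x := b) (by rw [hPt, eb])
  obtain ⟨r₁, hr₁⟩ := ThetaMaps.exists_act hL hγ₁ hc₁
  obtain ⟨r₂, hr₂⟩ := ThetaMaps.exists_act hL hγ₂ hc₂
  exact ThetaMaps.commute_act hr₁ hr₂ (ThetaMaps.lift_commute P hP f₁ f₂ hc)

include hdual hx0 hxr hxφ hs in
/-- A symmetric homomorphism to the dual is attached to an invertible module. -/
theorem exists_isLambda_of_symm : ∃ L : A.left.Modules, PicF.IsInvertible L ∧ AgPol.IsLambda A At φ L lam := by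
  haveI := H2.Rigid.GeomIrred.geometricallyIntegral_of_smooth A.hom
  haveI : IsLocallyNoetherian A.left := LocallyOfFiniteType.isLocallyNoetherian A.hom
  let c : PicLoc.PicSet (A ⊗ A).left := PicCalc.ph (A ◁ lam) x
  let l := PicCalc.ph (lift (𝟙 A) (𝟙 A)) c
  let two : A ⟶ A := (𝟙 A : A ⟶ A) ^ (2 : ℕ)
  haveI : IsMonHom two := NPowEtale.isMonHom_pow_id A 2
  obtain ⟨hfin, hflat, hsurj⟩ := H4.MulIso.int A (d := (2 : ℤ)) (by norm_num)
  rw [show ((𝟙 A : A ⟶ A) ^ (2 : ℤ)) = two from zpow_natCast _ 2] at hfin hflat hsurj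
  haveI := hfin
  obtain ⟨Kn, _, i, _, hKn, -⟩ := IsogenyFactor.exists_kernel two
  obtain ⟨L2, hL2, hL2e⟩ := PicGrp.exists_eq_cls (l * l)
  obtain ⟨K, iK, hK⟩ := KLExists.exists_isKL k A L2 hL2
  have hi : i * i = 1 := by
    have h := KernelSquare.comp_eq_one two i hKn
    rwa [MonObj.comp_pow, Category.comp_id, pow_two] at h
  obtain ⟨M, hM, ⟨eM⟩⟩ := (Groth.Agent.S19948.result k A A two hsurj Kn i hKn L2 hL2 K iK hK).2 ⟨by
      refine (KLBasics.factors_iff hL2 hK i).2 ⟨PicCalc.ph i l * PicCalc.ph i l, ?_⟩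
      have h := transTriv_diag hdual hx0 hxr hxφ lam hs hi
      unfold PicCalc.TransTriv at h ⊢
      rw [← hL2e, map_mul, map_mul, map_mul, h, _root_.mul_mul_mul_comm],
    isIsotropic_sq hdual hx0 hxr hxφ lam hs hL2 hL2e.symm i hi⟩
  obtain ⟨N, hN, hNe⟩ := PicGrp.exists_eq_cls
    (PicCalc.ph μ[A] (PicGrp.cls M hM) * (PicCalc.ph (fst A A) (PicGrp.cls M hM))⁻¹ *
      (PicCalc.ph (snd A A) (PicGrp.cls M hM))⁻¹)
  have hN' : AgPol.IsLambdaSheaf (μ[A].left : PicF.XT A.hom A ⟶ A.left) (fst A A).left (snd A A).left M N :=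
    (PicCalc.iso_iff (PicCalc.cl_tensor (PicCalc.cl_tensor (a := PicGrp.cls N hN) rfl
        (PicCalc.cl_pullback (fst A A) (a := PicGrp.cls M hM) rfl))
        (PicCalc.cl_pullback (snd A A) (a := PicGrp.cls M hM) rfl))
      (PicCalc.cl_pullback μ[A] (a := PicGrp.cls M hM) rfl)).2 (by
        rw [← hNe]; simp [_root_.mul_assoc, mul_comm, mul_left_comm])
  refine ⟨M, hM, N, hN, hN', ?_⟩
  show φ A (PicF.cl N) = lam
  let n : PicLoc.PicSet (A ⊗ A).left := PicGrp.cls N hN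
  have hn0 : AbDual.IsPicZeroCl A.hom A n.1 := DualSep.isPicZeroCl_lambda hM hN hN'
  have hc0 : AbDual.IsPicZeroCl A.hom A c.1 := isPicZeroCl_ph lam _ (whiskerLeft_snd _ _) hx0
  have hm : PicCalc.ph two (PicGrp.cls M hM) = l * l := by
    rw [hL2e]
    exact (PicCalc.iso_iff (PicCalc.cl_pullback two (a := PicGrp.cls M hM) rfl) (b := PicGrp.cls L2 hL2) rfl).1 ⟨eM⟩
  have hcl : ∀ {V : Over (Spec (CommRingCat.of k))} (p : V ⟶ A),
      PicCalc.ph (p * p) (PicGrp.cls M hM) = PicCalc.ph (lift p p) c * PicCalc.ph (lift p p) c := fun p => by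
    have h := congrArg (PicCalc.ph p) hm
    rw [← PicCalc.ph_comp, MonObj.comp_pow, Category.comp_id, pow_two, map_mul, ← PicCalc.ph_comp, comp_lift,
      Category.comp_id] at h
    exact h
  have hpq : PicCalc.ph (lift (fst A A * fst A A) (snd A A * snd A A)) n =
      PicCalc.ph (lift (fst A A * fst A A) (snd A A * snd A A)) c := by
    have h := DualSep.lambda_rel hM hN hN' (fst A A * fst A A) (snd A A * snd A A)
    rw [_root_.mul_mul_mul_comm (fst A A) (fst A A) (snd A A) (snd A A), hcl, hcl, hcl,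
      diag_mul hx0 hxr lam hs] at h
    have hb : PicCalc.ph (lift (fst A A * fst A A) (snd A A * snd A A)) c =
        PicCalc.ph (lift (fst A A) (snd A A)) c * PicCalc.ph (lift (fst A A) (snd A A)) c *
          (PicCalc.ph (lift (fst A A) (snd A A)) c * PicCalc.ph (lift (fst A A) (snd A A)) c) := by
      show PicCalc.ph _ (PicCalc.ph (A ◁ lam) x) = _
      rw [graph_add hx0 hxr, hs (fst A A) (snd A A * snd A A), graph_add hx0 hxr, hs (snd A A) (fst A A)]
    rw [hb]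
    generalize PicCalc.ph (lift (fst A A * fst A A) (snd A A * snd A A)) n = u at h ⊢
    generalize PicCalc.ph (lift (fst A A) (fst A A)) c = p at h ⊢
    generalize PicCalc.ph (lift (snd A A) (snd A A)) c = q at h ⊢
    generalize PicCalc.ph (lift (fst A A) (snd A A)) c = r at h ⊢
    apply mul_right_cancel (b := p * p)
    apply mul_right_cancel (b := q * q)
    rw [h]
    ac_rfl
  have key : ∀ d : PicLoc.PicSet (A ⊗ A).left, AbDual.IsPicZeroCl A.hom A d.1 →
      φ A (PicCalc.ph (lift (fst A A * fst A A) (snd A A * snd A A)) d).1 = two ≫ (φ A d.1 * φ A d.1) := by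
    intro d hd
    have e : lift (fst A A * fst A A) (snd A A * snd A A) = (A ◁ two) ≫ (((𝟙 A) * (𝟙 A)) ▷ A) := by
      apply CartesianMonoidalCategory.hom_ext <;> simp [two, pow_two, MonObj.comp_mul]
    have hd1 : AbDual.IsPicZeroCl A.hom A (PicCalc.ph (((𝟙 A) * (𝟙 A)) ▷ A) d).1 :=
      isPicZeroCl_ph (𝟙 A) _ (by rw [whiskerRight_snd, Category.comp_id]) hd
    rw [e, PicCalc.ph_comp, phi_natural hdual two hd1]
    congr 1
    have h := phi_pullback_mul hdual hdual (𝟙 A) (𝟙 A) hd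
    rw [bcMap_eq, bcMap_eq, id_whiskerRight, Over.id_left] at h
    erw [PicLoc.pullCl_id] at h
    exact h
  have h := key n hn0
  rw [hpq, key c hc0, hxφ] at h
  have h4 : ((𝟙 A : A ⟶ A) ^ (4 : ℤ)) ≫ φ A n.1 = ((𝟙 A : A ⟶ A) ^ (4 : ℤ)) ≫ lam := by
    haveI : IsMonHom (φ A n.1) := AVHom.isMonHom_of_pointed _
      ((DualSep.unit_comp_lambda hM hN hN' hdual).trans (MonObj.one_eq_one (M := At)).symm)
    rw [H4.AbSchMul.zpow_id_comp, H4.AbSchMul.zpow_id_comp]
    have e2 : ∀ f : A ⟶ At, IsMonHom f → two ≫ (f * f) = f ^ (4 : ℤ) := fun f hf => by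
      haveI := hf
      rw [MonObj.comp_mul, MonObj.pow_comp, Category.id_comp, ← pow_add]
      exact (zpow_natCast f 4).symm
    rw [← e2 _ inferInstance, ← e2 _ inferInstance, h]
  obtain ⟨-, hfl, hsu⟩ := H4.MulIso.int A (d := (4 : ℤ)) (by norm_num)
  apply Over.OverMorphism.ext
  refine hom_ext_of_fppf fun y => ?_
  obtain ⟨z, hz⟩ := hsu.surj y
  exact ⟨_, _, hfl, ⟨z, hz⟩, congrArg Over.Hom.left h4⟩

end Groth.Agent.H4.KerDual
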